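import Cfsg.Agent.Lib.Classical.Quad.Basic
import Cfsg.Agent.Lib.Classical.Iwasawa
import Mathlib.LinearAlgebra.Transvection.Basic
import Mathlib.GroupTheory.Perm.Cycle.Type
import Mathlib.NumberTheory.LegendreSymbol.QuadraticChar.Basic
import Mathlib.LinearAlgebra.Dimension.Finite

/-!
`Ω(Q)` for Witt index at least 2 and dimension at least 5: generated by Siegel transformations,
perfect, of index 4 (odd) or 2 (even) in `O(Q)`, with scalar centre and simple central quotient.
-/

set_option autoImplicit false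

namespace CfsgLib.Classical.Quad

open QuadraticMap Module

variable {F V : Type*} [Field F] [AddCommGroup V] [Module F V]
variable {Q : QuadraticForm F V}

/-- Two orthogonal hyperbolic pairs and a non-singular vector orthogonal to both. -/
structure Frame (Q : QuadraticForm F V) where
  e₁ : V
  f₁ : V
  e₂ : V
  f₂ : V
  a : V
  pair₁ : IsHPair Q e₁ f₁
  pair₂ : IsHPair Q e₂ f₂
  e₁e₂ : polar Q e₁ e₂ = 0
  e₁f₂ : polar Q e₁ f₂ = 0
  f₁e₂ : polar Q f₁ e₂ = 0
  f₁f₂ : polar Q f₁ f₂ = 0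
  ae₁ : polar Q a e₁ = 0
  af₁ : polar Q a f₁ = 0
  ae₂ : polar Q a e₂ = 0
  af₂ : polar Q a f₂ = 0
  Qa : Q a ≠ 0

namespace Frame

variable (P : Frame Q)

/-- Exchange of the members of the second pair. -/
def swap₂ : Frame Q :=
  { P with
    e₂ := P.f₂, f₂ := P.e₂
    pair₂ := ⟨P.pair₂.2.1, P.pair₂.1, by rw [polar_comm]; exact P.pair₂.2.2⟩
    e₁e₂ := P.e₁f₂, e₁f₂ := P.e₁e₂, f₁e₂ := P.f₁f₂, f₁f₂ := P.f₁e₂
    ae₂ := P.af₂, af₂ := P.ae₂ }

include P in
theorem five_le_finrank [FiniteDimensional F V] : 5 ≤ finrank F V := by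
  have hli : LinearIndependent F ![P.e₁, P.f₁, P.e₂, P.f₂, P.a] := by
    rw [Fintype.linearIndependent_iff]
    intro g hg
    simp only [Fin.sum_univ_five, Matrix.cons_val_zero, Matrix.cons_val_one,
      Matrix.cons_val_two, Matrix.cons_val_three, Matrix.cons_val_four, Matrix.cons_val,
      Matrix.head_cons, Matrix.tail_cons] at hg
    have key : ∀ y, g 0 * polar Q P.e₁ y + g 1 * polar Q P.f₁ y + g 2 * polar Q P.e₂ y
        + g 3 * polar Q P.f₂ y + g 4 * polar Q P.a y = 0 := by
      intro y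
      have := congrArg (fun z => polar Q z y) hg
      simpa only [polar_add_left, polar_smul_left, smul_eq_mul, polar_zero_left] using this
    have h0 : g 0 = 0 := by
      simpa [P.pair₁.2.2, polar_singular_self P.pair₁.2.1, polar_comm Q P.e₂ P.f₁, P.f₁e₂,
        polar_comm Q P.f₂ P.f₁, P.f₁f₂, P.af₁] using key P.f₁
    have h1 : g 1 = 0 := by
      simpa [polar_comm Q P.f₁ P.e₁, P.pair₁.2.2, polar_singular_self P.pair₁.1,
        polar_comm Q P.e₂ P.e₁, P.e₁e₂, polar_comm Q P.f₂ P.e₁, P.e₁f₂, P.ae₁] using key P.e₁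
    have h2 : g 2 = 0 := by
      simpa [P.e₁f₂, P.f₁f₂, P.pair₂.2.2, polar_singular_self P.pair₂.2.1, P.af₂] using key P.f₂
    have h3 : g 3 = 0 := by
      simpa [P.e₁e₂, P.f₁e₂, polar_comm Q P.f₂ P.e₂, P.pair₂.2.2,
        polar_singular_self P.pair₂.1, P.ae₂] using key P.e₂
    have h4 : g 4 = 0 := by
      rw [h0, h1, h2, h3] at hg
      simp only [zero_smul, zero_add] at hg
      rcases smul_eq_zero.mp hg with h | h
      · exact h
      · exact absurd (by rw [h]; simp) P.Qa
    intro i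
    fin_cases i <;> assumption
  simpa using hli.fintype_card_le_finrank

theorem e₁_indep_e₂ (c : F) : c • P.e₁ ≠ P.e₂ := by
  intro h
  have := congrArg (fun z => polar Q z P.f₂) h
  simp [P.e₁f₂, P.pair₂.2.2] at this

/-- The projection to the orthogonal complement of the two pairs. -/
def proj (x : V) : V :=
  x + (-(polar Q x P.f₁)) • P.e₁ + (-(polar Q x P.e₁)) • P.f₁ + (-(polar Q x P.f₂)) • P.e₂
    + (-(polar Q x P.e₂)) • P.f₂

theorem proj_spec (x : V) : polar Q (P.proj x) P.e₁ = 0 ∧ polar Q (P.proj x) P.f₁ = 0 ∧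
    polar Q (P.proj x) P.e₂ = 0 ∧ polar Q (P.proj x) P.f₂ = 0 := by
  simp [proj, P.pair₁.2.2, P.pair₂.2.2, polar_comm Q P.f₁ P.e₁, polar_comm Q P.f₂ P.e₂,
    polar_comm Q P.e₂ P.e₁, polar_comm Q P.f₂ P.e₁, polar_comm Q P.e₂ P.f₁, polar_comm Q P.f₂ P.f₁,
    P.e₁e₂, P.e₁f₂, P.f₁e₂, P.f₁f₂, polar_singular_self P.pair₁.1, polar_singular_self P.pair₁.2.1,
    polar_singular_self P.pair₂.1, polar_singular_self P.pair₂.2.1]

end Frame

/-- In dimension at least 5 the orthogonal complement of two vectors is not totally singular. -/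
theorem exists_nonsingular_orth [FiniteDimensional F V] (hnd : NDPolar Q) (P : Frame Q) (a b : V) :
    ∃ x, polar Q x a = 0 ∧ polar Q x b = 0 ∧ Q x ≠ 0 := by
  by_contra hcon
  push Not at hcon
  set U : Submodule F V :=
    LinearMap.ker (((polarBilin Q).flip a).prod ((polarBilin Q).flip b)) with hU
  have hmem : ∀ x, x ∈ U ↔ polar Q x a = 0 ∧ polar Q x b = 0 := by
    intro x
    simp [hU, Prod.ext_iff]
  have hUn : finrank F V ≤ finrank F U + 2 := by
    have h := LinearMap.finrank_range_add_finrank_ker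
      (((polarBilin Q).flip a).prod ((polarBilin Q).flip b))
    have h2 := Submodule.finrank_le
      (LinearMap.range (((polarBilin Q).flip a).prod ((polarBilin Q).flip b)))
    rw [Module.finrank_prod, finrank_self] at h2
    rw [← hU] at h
    omega
  have hQ : ∀ x ∈ U, Q x = 0 := fun x hx => hcon x ((hmem x).1 hx).1 ((hmem x).1 hx).2
  have hB : ∀ x ∈ U, ∀ y ∈ U, polar Q x y = 0 := by
    intro x hx y hy
    simp [polar, hQ x hx, hQ y hy, hQ _ (U.add_mem hx hy)]
  set Ψ : V →ₗ[F] (U →ₗ[F] F) := (LinearMap.lcomp F F U.subtype).comp (polarBilin Q) with hΨ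
  have hsurj : Function.Surjective Ψ := by
    intro φ
    obtain ⟨g, hg⟩ := LinearMap.exists_extend φ
    obtain ⟨x, hx⟩ := exists_polar hnd g
    refine ⟨x, LinearMap.ext fun y => ?_⟩
    rw [← hg]
    exact hx _
  have hle : U ≤ LinearMap.ker Ψ := fun x hx => LinearMap.ext fun y => hB x hx y y.2
  have h1 := LinearMap.finrank_range_add_finrank_ker Ψ
  rw [LinearMap.range_eq_top.2 hsurj, finrank_top, Subspace.dual_finrank_eq] at h1
  have h2 := Submodule.finrank_mono hle
  have h3 := P.five_le_finrank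
  omega

section Main

variable [FiniteDimensional F V] (hnd : NDPolar Q) (P : Frame Q)

include hnd

theorem siegelGroup_move_orth {u w : V} (hu : Q u = 0) (hw : Q w = 0) (hw0 : w ≠ 0)
    (hind : ∀ c : F, c • w ≠ u) (huw : polar Q u w = 0) :
    ∃ g ∈ siegelGroup Q, g.1 u = w := by
  obtain ⟨x, h1, h2⟩ := exists_polar_pair hnd (not_smul_eq_of_indep hw0 hind) 1 1
  set z := x + (-(Q x)) • u with hz
  have hzz : Q z = 0 := by
    rw [hz, Q_comb1, hu, polar_comm Q x u, h1]
    ring
  have hzu : polar Q u z = 1 := by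
    rw [hz, polar_add_right, polar_smul_right, polar_singular_self hu, h1]
    simp
  have hzw : polar Q w z = 1 := by
    rw [hz, polar_add_right, polar_smul_right, polar_comm Q w u, huw, h2]
    simp
  have hd : polar Q z (w - u) = 0 := by
    rw [polar_sub_right, polar_comm Q z w, polar_comm Q z u, hzu, hzw, sub_self]
  refine ⟨_, siegel_mem hzz hd, ?_⟩
  have hQ : Q (w - u) = 0 := by
    rw [sub_eq_add_neg, QuadraticMap.map_add Q, QuadraticMap.map_neg, hu, hw, polar_neg_right,
      polar_comm Q w u, huw]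
    simp
  rw [siegel_apply, hzu, hQ, polar_sub_right, huw, polar_singular_self hu]
  module

include P in
theorem siegelGroup_to_e₁ {u : V} (hu : Q u = 0) (hu0 : u ≠ 0) :
    ∃ g ∈ siegelGroup Q, g.1 u = P.e₁ := by
  have he₂ : P.e₂ ≠ 0 := P.pair₂.left_ne_zero
  have he₁ : P.e₁ ≠ 0 := P.pair₁.left_ne_zero
  by_cases h1 : polar Q u P.e₁ = 0
  · by_cases h2 : ∃ c : F, c • P.e₁ = u
    · obtain ⟨c, rfl⟩ := h2
      have hc : c ≠ 0 := fun h => hu0 (by rw [h, zero_smul])
      obtain ⟨g, hg, hgu⟩ := siegelGroup_move_orth hnd hu P.pair₂.1 he₂ (fun d hd => by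
        have := congrArg (fun z => polar Q z P.f₁) hd
        simp [polar_comm Q P.e₂ P.f₁, P.f₁e₂, P.pair₁.2.2] at this
        exact hc this.symm) (by simp [P.e₁e₂])
      obtain ⟨g', hg', hgu'⟩ := siegelGroup_move_orth hnd P.pair₂.1 P.pair₁.1 he₁
        P.e₁_indep_e₂ (by rw [polar_comm]; exact P.e₁e₂)
      exact ⟨g' * g, mul_mem hg' hg, by rw [mul_apply, hgu, hgu']⟩
    · push Not at h2
      exact siegelGroup_move_orth hnd hu P.pair₁.1 he₁ h2 h1
  · set z := polar Q u P.e₂ • P.e₁ + (-(polar Q u P.e₁)) • P.e₂ with hz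
    have hzQ : Q z = 0 := by
      simp [hz, QuadraticMap.map_add Q, QuadraticMap.map_smul, P.pair₁.1, P.pair₂.1, P.e₁e₂]
    have hzf : polar Q z P.f₂ = -(polar Q u P.e₁) := by
      simp [hz, P.e₁f₂, P.pair₂.2.2]
    have hz0 : z ≠ 0 := fun h => h1 (by simpa [h] using hzf.symm)
    have huz : polar Q u z = 0 := by
      simp only [hz, polar_add_right, polar_smul_right, smul_eq_mul]
      ring
    have hze : polar Q z P.e₁ = 0 := by
      simp [hz, polar_singular_self P.pair₁.1, polar_comm Q P.e₂ P.e₁, P.e₁e₂]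
    obtain ⟨g, hg, hgu⟩ := siegelGroup_move_orth hnd hu hzQ hz0 (fun c hc => h1 (by
      rw [← hc]; simp [hze])) huz
    obtain ⟨g', hg', hgu'⟩ := siegelGroup_move_orth hnd hzQ P.pair₁.1 he₁ (fun c hc => h1 (by
      have := congrArg (fun z => polar Q z P.f₂) hc
      simp only [polar_smul_left, P.e₁f₂, hzf] at this
      simpa using this.symm)) hze
    exact ⟨g' * g, mul_mem hg' hg, by simp [hgu, hgu']⟩

include P in
theorem siegelGroup_map_hpair {u z u' z' : V} (h : IsHPair Q u z) (h' : IsHPair Q u' z') :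
    ∃ g ∈ siegelGroup Q, g.1 u = u' ∧ g.1 z = z' := by
  obtain ⟨g, hg, hgu⟩ := siegelGroup_to_e₁ hnd P h.1 h.left_ne_zero
  obtain ⟨g', hg', hgu'⟩ := siegelGroup_to_e₁ hnd P h'.1 h'.left_ne_zero
  have hk : (g'⁻¹ * g).1 u = u' := by
    rw [mul_apply, hgu, ← hgu', inv_apply_self]
  obtain ⟨h1, h2, h3⟩ := h.map (g'⁻¹ * g)
  obtain ⟨w, hw, hgz⟩ := exists_siegel_partner h1 h2 h'.2.1 h3 (by rw [hk]; exact h'.2.2)
  refine ⟨siegel Q _ w h1 hw * (g'⁻¹ * g), mul_mem (siegel_mem _ _) (mul_mem (inv_mem hg') hg),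
    ?_, by rw [mul_apply, hgz]⟩
  rw [mul_apply, siegel_fix h1 hw (polar_singular_self h1) hw, hk]

include P in
theorem exists_pair_of_nonsingular {v : V} (hv : Q v ≠ 0) :
    ∃ u z, IsHPair Q u z ∧ v = z + Q v • u := by
  obtain ⟨u, hu, huv⟩ : ∃ u, Q u = 0 ∧ polar Q u v = 1 := by
    by_cases h1 : polar Q P.e₁ v = 0
    · by_cases h2 : polar Q P.f₁ v = 0
      · obtain ⟨x, hx⟩ := exists_polar_one hnd (show v ≠ 0 from fun h => hv (by rw [h]; simp))
        set α := 1 - polar Q x P.f₁ with hα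
        refine ⟨x + α • P.e₁ + (-(Q x) - α * polar Q x P.e₁) • P.f₁, ?_, ?_⟩
        · rw [Q_comb, P.pair₁.1, P.pair₁.2.1, P.pair₁.2.2, hα]
          ring
        · rw [polar_comm] at hx
          simp [hx, h1, h2]
      · exact ⟨(polar Q P.f₁ v)⁻¹ • P.f₁, by simp [QuadraticMap.map_smul, P.pair₁.2.1],
          by simp [h2]⟩
    · exact ⟨(polar Q P.e₁ v)⁻¹ • P.e₁, by simp [QuadraticMap.map_smul, P.pair₁.1], by simp [h1]⟩
  refine ⟨u, v + (-(Q v)) • u, ⟨hu, ?_, ?_⟩, by module⟩
  · rw [Q_comb1, hu, polar_comm Q v u, huv]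
    ring
  · simp [huv, polar_singular_self hu]

/-- The class of the reflection in `f₁ + c e₁` modulo the Siegel group. -/
noncomputable def reflClass (P : Frame Q) (c : F) : Orth Q ⧸ siegelGroup Q :=
  QuotientGroup.mk' (siegelGroup Q) (refl Q (P.f₁ + c • P.e₁))

omit hnd in
theorem Q_f₁_add (c : F) : Q (P.f₁ + c • P.e₁) = c := by
  rw [Q_comb1, P.pair₁.1, P.pair₁.2.1, polar_comm Q P.f₁ P.e₁, P.pair₁.2.2]
  ring

theorem reflClass_eq (v : V) :
    QuotientGroup.mk' (siegelGroup Q) (refl Q v) = reflClass P (Q v) := by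
  by_cases hv : Q v = 0
  · have h1 : ∀ w, Q w = 0 → refl Q w = 1 := fun w hw => orth_ext fun x => by simp [refl_apply, hw]
    simp [reflClass, h1 v hv, h1 _ ((Q_f₁_add P (Q v)).trans hv)]
  · obtain ⟨u, z, hp, hvz⟩ := exists_pair_of_nonsingular hnd P hv
    obtain ⟨g, hg, hgu, hgz⟩ := siegelGroup_map_hpair hnd P hp P.pair₁
    have hgv : g.1 v = P.f₁ + Q v • P.e₁ := by
      conv_lhs => rw [hvz]
      rw [map_add, map_smul, hgu, hgz]
    have h1 : QuotientGroup.mk' (siegelGroup Q) g = 1 := (QuotientGroup.eq_one_iff g).2 hg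
    rw [reflClass, ← hgv, ← refl_conj, map_mul, map_mul, map_inv, h1, one_mul, inv_one, mul_one]

theorem reflClass_sq {s : F} (hs : s ≠ 0) (c : F) : reflClass P (s * s * c) = reflClass P c := by
  have h := reflClass_eq hnd P (s • (P.f₁ + c • P.e₁))
  rw [refl_smul hs, QuadraticMap.map_smul, smul_eq_mul, Q_f₁_add] at h
  exact h.symm

omit hnd in
theorem reflClass_mul_self (c : F) : reflClass P c * reflClass P c = 1 := by
  rw [reflClass, ← map_mul, refl_mul_self, map_one]

theorem reflClass_comm (b c : F) : reflClass P b * reflClass P c = reflClass P c * reflClass P b := by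
  have h : Q (P.f₂ + c • P.e₂) = c := by
    rw [Q_comb1, P.pair₂.1, P.pair₂.2.1, polar_comm Q P.f₂ P.e₂, P.pair₂.2.2]
    ring
  have h2 := reflClass_eq hnd P (P.f₂ + c • P.e₂)
  rw [h] at h2
  rw [← h2, reflClass, ← map_mul, ← map_mul, refl_comm]
  simp [P.e₁e₂, P.e₁f₂, P.f₁e₂, P.f₁f₂]

theorem closure_reflClass : Subgroup.closure (Set.range (reflClass P)) = ⊤ := by
  rw [eq_top_iff, ← Subgroup.map_top_of_surjective _ (QuotientGroup.mk'_surjective (siegelGroup Q)),
    ← closure_refl_siegel hnd, MonoidHom.map_closure, Subgroup.closure_le]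
  rintro _ ⟨g, ⟨v, rfl⟩ | hg, rfl⟩
  · rw [reflClass_eq hnd P v]
    exact Subgroup.subset_closure ⟨_, rfl⟩
  · have hm : g ∈ siegelGroup Q := Subgroup.subset_closure hg
    rw [QuotientGroup.mk'_apply, (QuotientGroup.eq_one_iff g).2 hm]
    exact one_mem _

include P in
theorem commutator_orth_le : commutator (Orth Q) ≤ siegelGroup Q := by
  have hc : ∀ x y : Orth Q ⧸ siegelGroup Q, x * y = y * x := by
    have hle : Set.range (reflClass P) ⊆
        (Subgroup.centralizer (Set.range (reflClass P)) : Set _) := by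
      rintro _ ⟨b, rfl⟩ _ ⟨c, rfl⟩
      exact reflClass_comm hnd P c b
    have h1 := (Subgroup.closure_le (k := Set.range (reflClass P)) _).2 hle
    rw [closure_reflClass hnd P, top_le_iff, Subgroup.centralizer_eq_top_iff_subset] at h1
    intro x y
    have hx : x ∈ Subgroup.center (Orth Q ⧸ siegelGroup Q) := by
      have : x ∈ Subgroup.closure (Set.range (reflClass P)) := by
        rw [closure_reflClass hnd P]; trivial
      exact (Subgroup.closure_le (k := Set.range (reflClass P)) _).2 h1 this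
    exact (Subgroup.mem_center_iff.1 hx y).symm
  rw [commutator_def, Subgroup.commutator_le]
  intro a _ b _
  rw [← QuotientGroup.eq_one_iff (N := siegelGroup Q)]
  simp only [commutatorElement_def, QuotientGroup.mk_mul, QuotientGroup.mk_inv, hc (a : _) (b : _)]
  group

/-! ### Perfectness -/

omit hnd in
theorem siegel_mem_commutator_aux {x : V} (hxe₁ : polar Q x P.e₁ = 0)
    (hxe₂ : polar Q x P.e₂ = 0) (hxf₂ : polar Q x P.f₂ = 0) :
    siegel Q P.e₁ (x + (-(Q x)) • P.e₂) P.pair₁.1
      (by simp [polar_comm Q P.e₁ x, hxe₁, P.e₁e₂]) ∈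
      ⁅siegelGroup Q, siegelGroup Q⁆ := by
  have hx : polar Q P.e₂ x = 0 := by rw [polar_comm]; exact hxe₂
  have h := Subgroup.commutator_mem_commutator (siegel_mem P.pair₂.1 hx)
    (siegel_mem P.pair₁.1 P.e₁f₂)
  have hfix : (siegel Q P.e₂ x P.pair₂.1 hx).1 P.e₁ = P.e₁ :=
    siegel_fix _ _ P.e₁e₂ (by rw [polar_comm]; exact hxe₁)
  have him : (siegel Q P.e₂ x P.pair₂.1 hx).1 P.f₂ = P.f₂ + (x + (-(Q x)) • P.e₂) := by
    rw [siegel_apply, polar_comm Q P.f₂ P.e₂, P.pair₂.2.2, polar_comm Q P.f₂ x, hxf₂]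
    module
  rw [commutatorElement_def, siegel_conj, siegel_inv, ] at h
  have h1 : polar Q P.e₁ ((siegel Q P.e₂ x P.pair₂.1 hx).1 P.f₂) = 0 := by
    rw [← hfix, orth_polar, P.e₁f₂]
  rw [siegel_congr _ _ P.pair₁.1 h1 hfix rfl, siegel_mul] at h
  convert h using 1
  exact siegel_congr _ _ _ _ rfl (by rw [him]; abel)

theorem siegel_mem_commutator_smul_e₂ (c : F) :
    siegel Q P.e₁ (c • P.e₂) P.pair₁.1 (by simp [P.e₁e₂]) ∈
      ⁅siegelGroup Q, siegelGroup Q⁆ := by
  obtain ⟨y₀, hy₀⟩ := exists_polar_one hnd (show P.a ≠ 0 from fun h => P.Qa (by rw [h]; simp))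
  obtain ⟨p1, p2, p3, p4⟩ := P.proj_spec y₀
  have hay : polar Q P.a (P.proj y₀) = 1 := by
    simp [Frame.proj, hy₀, P.ae₁, P.af₁, P.ae₂, P.af₂]
  set y := (-c) • P.proj y₀ with hy
  have hye₁ : polar Q y P.e₁ = 0 := by simp [hy, p1]
  have hye₂ : polar Q y P.e₂ = 0 := by simp [hy, p3]
  have hyf₂ : polar Q y P.f₂ = 0 := by simp [hy, p4]
  have hs := siegel_mem_commutator_aux P (x := P.a + y) (by simp [P.ae₁, hye₁])
    (by simp [P.ae₂, hye₂]) (by simp [P.af₂, hyf₂])
  have ha := siegel_mem_commutator_aux P P.ae₁ P.ae₂ P.af₂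
  have hb := siegel_mem_commutator_aux P hye₁ hye₂ hyf₂
  have h := mul_mem hs (inv_mem (mul_mem ha hb))
  rw [siegel_mul, siegel_inv, siegel_mul] at h
  convert h using 1
  refine siegel_congr _ _ _ _ rfl ?_
  rw [QuadraticMap.map_add Q, hy]
  simp only [polar_smul_right, hay, smul_eq_mul]
  module

include P in
theorem siegelGroup_le_commutator : siegelGroup Q ≤ ⁅siegelGroup Q, siegelGroup Q⁆ := by
  set D := ⁅siegelGroup Q, siegelGroup Q⁆ with hD
  have base : ∀ (w : V) (hw : polar Q P.e₁ w = 0), siegel Q P.e₁ w P.pair₁.1 hw ∈ D := by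
    intro w hw
    obtain ⟨p1, p2, p3, p4⟩ := P.proj_spec w
    set x := P.proj w with hx
    have h2 := siegel_mem_commutator_smul_e₂ hnd P (polar Q w P.f₂ + Q x)
    have h3 := siegel_mem_commutator_smul_e₂ hnd P.swap₂ (polar Q w P.e₂)
    have h1 := siegel_mem_commutator_aux P p1 p3 p4
    have h := mul_mem (mul_mem h1 h2) h3
    simp only [Frame.swap₂] at h
    rw [siegel_mul, siegel_mul] at h
    have hwe : polar Q w P.e₁ = 0 := by rw [polar_comm]; exact hw
    have he : w = x + (-(Q x)) • P.e₂ + (polar Q w P.f₂ + Q x) • P.e₂ + polar Q w P.e₂ • P.f₂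
        + polar Q w P.f₁ • P.e₁ := by
      rw [hx, Frame.proj, hwe]
      module
    have hperp : polar Q P.e₁ (x + (-(Q x)) • P.e₂ + (polar Q w P.f₂ + Q x) • P.e₂
        + polar Q w P.e₂ • P.f₂) = 0 := by
      simp [polar_comm Q P.e₁ x, p1, P.e₁e₂, P.e₁f₂]
    rw [← siegel_add_smul (polar Q w P.f₁) P.pair₁.1 hperp] at h
    rwa [siegel_congr P.pair₁.1 hw P.pair₁.1 _ rfl he]
  rw [siegelGroup, Subgroup.closure_le]
  rintro _ ⟨u, w, hu, hw, rfl⟩
  by_cases hu0 : u = 0
  · subst hu0
    have : siegel Q 0 w hu hw = 1 := orth_ext fun x => by simp [siegel_apply]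
    rw [this]
    exact one_mem _
  · obtain ⟨g, hg, hgu⟩ := siegelGroup_to_e₁ hnd P hu hu0
    have hperp : polar Q P.e₁ (g.1 w) = 0 := by rw [← hgu, orth_polar, hw]
    have h := base (g.1 w) hperp
    rw [← siegel_congr (by rw [orth_Q, hu]) (by rw [orth_polar, hw]) P.pair₁.1 hperp hgu rfl,
      ← siegel_conj g hu hw] at h
    exact (Subgroup.Normal.mem_comm_iff inferInstance).1 (by simpa [mul_assoc] using h) |>
      fun h' => by simpa using h'

include P in
/-- `Ω(Q)` is the Siegel group. -/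
theorem commutator_orth_eq : commutator (Orth Q) = siegelGroup Q :=
  le_antisymm (commutator_orth_le hnd P) ((siegelGroup_le_commutator hnd P).trans
    (Subgroup.commutator_mono le_top le_top))

include P in
theorem siegelGroup_perfect : commutator (siegelGroup Q) = ⊤ := by
  apply Subgroup.map_injective (siegelGroup Q).subtype_injective
  rw [Subgroup.map_subtype_commutator, ← MonoidHom.range_eq_map, Subgroup.range_subtype]
  exact le_antisymm (Subgroup.commutator_le_self _) (siegelGroup_le_commutator hnd P)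

include P in
theorem map_eq_one_of_mem {A : Type*} [CommGroup A] (φ : Orth Q →* A) {g : Orth Q}
    (hg : g ∈ siegelGroup Q) : φ g = 1 := by
  rw [← commutator_orth_eq hnd P] at hg
  exact Abelianization.commutator_subset_ker φ hg

/-! ### The action on singular points -/

omit hnd in
/-- The non-zero singular vectors. -/
abbrev SingVec (Q : QuadraticForm F V) : Type _ := {u : V // u ≠ 0 ∧ Q u = 0}

omit hnd in
/-- Equality of the lines spanned. -/
def sameLine (Q : QuadraticForm F V) : Setoid (SingVec Q) where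
  r x y := ∃ c : F, c • x.1 = y.1
  iseqv :=
    { refl := fun x => ⟨1, one_smul _ _⟩
      symm := by
        rintro x y ⟨c, hc⟩
        have hc0 : c ≠ 0 := by
          rintro rfl
          exact y.2.1 (by rw [← hc, zero_smul])
        exact ⟨c⁻¹, by rw [← hc, smul_smul, inv_mul_cancel₀ hc0, one_smul]⟩
      trans := by
        rintro x y z ⟨c, hc⟩ ⟨d, hd⟩
        exact ⟨d * c, by rw [← smul_smul, hc, hd]⟩ }

omit hnd in
/-- The permutation of singular vectors given by an isometry. -/
def singPerm (Q : QuadraticForm F V) : Orth Q →* Equiv.Perm (SingVec Q) where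
  toFun g :=
    { toFun := fun u => ⟨g.1 u.1, orth_ne_zero g u.2.1, by rw [orth_Q, u.2.2]⟩
      invFun := fun u => ⟨(g⁻¹).1 u.1, orth_ne_zero g⁻¹ u.2.1, by rw [orth_Q, u.2.2]⟩
      left_inv := fun u => Subtype.ext (inv_apply_self g u.1)
      right_inv := fun u => Subtype.ext (self_apply_inv g u.1) }
  map_one' := rfl
  map_mul' _ _ := rfl

include P in
theorem primitiveMod_singular :
    PrimitiveMod ((singPerm Q).comp (siegelGroup Q).subtype) (sameLine Q) := by
  intro r hs hinv hex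
  have nonorth : ∀ x y x' y' : SingVec Q, polar Q x.1 y.1 ≠ 0 → polar Q x'.1 y'.1 ≠ 0 → r x y →
      r x' y' := by
    intro x y x' y' h h' hr
    have hp : IsHPair Q x.1 ((polar Q x.1 y.1)⁻¹ • y.1) :=
      ⟨x.2.2, by simp [QuadraticMap.map_smul, y.2.2], by simp [h]⟩
    have hp' : IsHPair Q x'.1 ((polar Q x'.1 y'.1)⁻¹ • y'.1) :=
      ⟨x'.2.2, by simp [QuadraticMap.map_smul, y'.2.2], by simp [h']⟩
    obtain ⟨g, hg, hgx, hgy⟩ := siegelGroup_map_hpair hnd P hp hp'
    have h1 := hinv ⟨g, hg⟩ x y hr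
    have hx : (((singPerm Q).comp (siegelGroup Q).subtype) ⟨g, hg⟩) x = x' := Subtype.ext hgx
    have hy : sameLine Q ((((singPerm Q).comp (siegelGroup Q).subtype) ⟨g, hg⟩) y) y' := by
      refine ⟨polar Q x'.1 y'.1 * (polar Q x.1 y.1)⁻¹, ?_⟩
      show _ • g.1 y.1 = y'.1
      rw [map_smul] at hgy
      rw [← smul_smul, hgy, smul_smul, mul_inv_cancel₀ h', one_smul]
    rw [hx] at h1
    exact r.trans h1 (hs _ _ hy)
  have hall : ∀ x y : SingVec Q, polar Q x.1 y.1 ≠ 0 → r x y := by
    obtain ⟨x, y, hr, hns⟩ := hex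
    by_cases h : polar Q x.1 y.1 = 0
    · have hind : ∀ c : F, c • y.1 ≠ x.1 := fun c hc => hns ((sameLine Q).symm ⟨c, hc⟩)
      obtain ⟨x₀, hx₀, hy₀⟩ := exists_polar_pair hnd (not_smul_eq_of_indep y.2.1 hind) 1 0
      set a := x₀ + (-(Q x₀)) • x.1 with ha
      have haQ : Q a = 0 := by
        rw [ha, Q_comb1, x.2.2, polar_comm Q x₀ x.1, hx₀]
        ring
      have hxa : polar Q x.1 a = 1 := by simp [ha, hx₀, polar_singular_self x.2.2]
      have hya : polar Q y.1 a = 0 := by simp [ha, hy₀, polar_comm Q y.1 x.1, h]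
      obtain ⟨b, hba, hby, hb⟩ := exists_nonsingular_orth hnd P a y.1
      have hab : polar Q a b = 0 := by rw [polar_comm]; exact hba
      set g : siegelGroup Q := ⟨_, siegel_mem haQ hab⟩
      have h1 := hinv g x y hr
      have hy : ((singPerm Q).comp (siegelGroup Q).subtype) g y = y :=
        Subtype.ext (siegel_fix haQ hab hya (by rw [polar_comm]; exact hby))
      rw [hy] at h1
      intro x' y' h'
      refine nonorth x _ x' y' ?_ h' (r.trans hr (r.symm h1))
      show polar Q x.1 ((siegel Q a b haQ hab).1 x.1) ≠ 0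
      simp only [siegel_apply, hxa, polar_add_right, polar_smul_right,
        polar_singular_self x.2.2, smul_eq_mul]
      ring_nf
      simpa using hb
    · exact fun x' y' h' => nonorth x y x' y' h h' hr
  intro x y
  by_cases h : polar Q x.1 y.1 = 0
  · obtain ⟨z, hz, h1, h2⟩ := exists_singular_polar hnd x.2.1 y.2.1 x.2.2 h
    have hz0 : z ≠ 0 := by
      rintro rfl
      simp at h1
    exact r.trans (hall x ⟨z, hz0, hz⟩ h1) (r.symm (hall y ⟨z, hz0, hz⟩ h2))
  · exact hall x y h

include P in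
/-- An isometry fixing all singular lines is `±1`. -/
theorem scalar_of_fix_lines (g : Orth Q) (h : ∀ u, u ≠ 0 → Q u = 0 → ∃ c : F, g.1 u = c • u) :
    (∀ x, g.1 x = x) ∨ (∀ x, g.1 x = -x) := by
  choose lam hlam using h
  have key : ∀ u (hu0 : u ≠ 0) (hu : Q u = 0) w (hw0 : w ≠ 0) (hw : Q w = 0),
      (∀ c : F, c • w ≠ u) → polar Q u w = 0 → lam u hu0 hu = lam w hw0 hw := by
    intro u hu0 hu w hw0 hw hind huw
    have hsum : Q (u + w) = 0 := by rw [QuadraticMap.map_add Q, hu, hw, huw]; simp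
    have hsum0 : u + w ≠ 0 := fun h0 => hind (-1) (by rw [neg_one_smul]; exact (eq_neg_of_add_eq_zero_left h0).symm)
    have h1 := hlam _ hsum0 hsum
    rw [map_add, hlam u hu0 hu, hlam w hw0 hw] at h1
    have h2 : (lam u hu0 hu - lam _ hsum0 hsum) • u + (lam w hw0 hw - lam _ hsum0 hsum) • w = 0 := by
      linear_combination (norm := module) h1
    obtain ⟨h3, h4⟩ := (LinearIndependent.pair_iff.1 (not_smul_eq_of_indep hw0 hind)) _ _ h2
    linear_combination h3 - h4
  have he₁ : P.e₁ ≠ 0 := P.pair₁.left_ne_zero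
  have he₂ : P.e₂ ≠ 0 := P.pair₂.left_ne_zero
  set μ := lam P.e₁ he₁ P.pair₁.1 with hμ
  have hsing : ∀ u, Q u = 0 → g.1 u = μ • u := by
    intro u hu
    by_cases hu0 : u = 0
    · simp [hu0]
    by_cases h1 : polar Q u P.e₁ = 0
    · by_cases h2 : ∃ c : F, c • P.e₁ = u
      · obtain ⟨c, rfl⟩ := h2
        rw [map_smul, hlam P.e₁ he₁ P.pair₁.1, smul_comm]
      · push Not at h2
        rw [hlam u hu0 hu, key u hu0 hu _ he₁ P.pair₁.1 h2 h1]
    · set z := polar Q u P.e₂ • P.e₁ + (-(polar Q u P.e₁)) • P.e₂ with hz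
      have hzQ : Q z = 0 := by
        simp [hz, QuadraticMap.map_add Q, QuadraticMap.map_smul, P.pair₁.1, P.pair₂.1, P.e₁e₂]
      have hzf : polar Q z P.f₂ = -(polar Q u P.e₁) := by
        simp [hz, P.e₁f₂, P.pair₂.2.2]
      have hz0 : z ≠ 0 := fun h => h1 (by simpa [h] using hzf.symm)
      have huz : polar Q u z = 0 := by
        simp only [hz, polar_add_right, polar_smul_right, smul_eq_mul]
        ring
      have hze : polar Q z P.e₁ = 0 := by
        simp [hz, polar_singular_self P.pair₁.1, polar_comm Q P.e₂ P.e₁, P.e₁e₂]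
      rw [hlam u hu0 hu, key u hu0 hu z hz0 hzQ (fun c hc => h1 (by rw [← hc]; simp [hze])) huz,
        key z hz0 hzQ _ he₁ P.pair₁.1 (fun c hc => h1 (by
          have := congrArg (fun z => polar Q z P.f₂) hc
          simp only [polar_smul_left, P.e₁f₂, hzf] at this
          simpa using this.symm)) hze]
  have hall : ∀ x, g.1 x = μ • x := by
    intro x
    by_cases hx : Q x = 0
    · exact hsing x hx
    obtain ⟨u, z, hp, hxz⟩ := exists_pair_of_nonsingular hnd P hx
    rw [hxz, map_add, map_smul, hsing z hp.2.1, hsing u hp.1]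
    module
  have hsq : (μ * μ - 1) * Q P.a = 0 := by
    have := orth_Q g P.a
    rw [hall, QuadraticMap.map_smul, smul_eq_mul] at this
    linear_combination this
  rcases mul_eq_zero.1 hsq with h1 | h1
  · rcases mul_self_eq_one_iff.1 (sub_eq_zero.1 h1) with h2 | h2
    · exact Or.inl fun x => by rw [hall, h2, one_smul]
    · exact Or.inr fun x => by rw [hall, h2, neg_one_smul]
  · exact absurd h1 P.Qa

omit hnd in
theorem rootGroup_comm {u : V} {g g' : Orth Q} (hg : g ∈ rootGroup Q u) (hg' : g' ∈ rootGroup Q u) :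
    g * g' = g' * g := by
  rcases hg with rfl | ⟨w, hu, hw, rfl⟩
  · simp
  rcases hg' with rfl | ⟨w', hu', hw', rfl⟩
  · simp
  rw [siegel_mul hu hw hw', siegel_mul hu hw' hw]
  exact siegel_congr _ _ _ _ rfl (add_comm _ _)

omit hnd in
theorem rootGroup_le_smul {c : F} (hc : c ≠ 0) (u : V) : rootGroup Q u ≤ rootGroup Q (c • u) := by
  rintro g (rfl | ⟨w, hu, hw, rfl⟩)
  · exact one_mem _
  · have hu' : Q (c • u) = 0 := by simp [QuadraticMap.map_smul, hu]
    have hw' : polar Q (c • u) (c⁻¹ • w) = 0 := by simp [hw]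
    refine Or.inr ⟨c⁻¹ • w, hu', hw', ?_⟩
    rw [siegel_smul_left c hu (w := c⁻¹ • w) (by simp [hw])]
    exact siegel_congr _ _ _ _ rfl (by rw [smul_smul, mul_inv_cancel₀ hc, one_smul])

include P in
theorem normal_siegelGroup_dichotomy (N : Subgroup (siegelGroup Q)) (hN : N.Normal) :
    (∀ n ∈ N, (∀ x, n.1.1 x = x) ∨ (∀ x, n.1.1 x = -x)) ∨ N = ⊤ := by
  have := iwasawa_normal ((singPerm Q).comp (siegelGroup Q).subtype) (sameLine Q)
    (fun g x y hxy => by
      obtain ⟨c, hc⟩ := hxy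
      refine ⟨c, ?_⟩
      show c • g.1.1 x.1 = g.1.1 y.1
      rw [← map_smul, hc])
    (primitiveMod_singular hnd P)
    (fun u => (rootGroup Q u.1).comap (siegelGroup Q).subtype) ⟨P.e₁, P.pair₁.left_ne_zero, P.pair₁.1⟩
    (fun x y hxy => by
      obtain ⟨c, hc⟩ := hxy
      have hc0 : c ≠ 0 := by
        rintro rfl
        exact y.2.1 (by rw [← hc, zero_smul])
      congr 1
      refine le_antisymm ?_ ?_
      · rw [← hc]; exact rootGroup_le_smul hc0 _
      · have h1 := rootGroup_le_smul (Q := Q) (inv_ne_zero hc0) y.1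
        have h2 : c⁻¹ • y.1 = x.1 := by
          rw [← hc, smul_smul, inv_mul_cancel₀ hc0, one_smul]
        rwa [h2] at h1)
    (fun g x t ht => by
      rcases ht with h | ⟨w, hu, hw, h⟩
      · left
        change (g : Orth Q) * (t : Orth Q) * (g : Orth Q)⁻¹ = 1
        change (t : Orth Q) = 1 at h
        rw [h]
        group
      · right
        change (t : Orth Q) = _ at h
        refine ⟨g.1.1 w, ?_, ?_, ?_⟩
        · show Q (g.1.1 x.1) = 0
          rw [orth_Q, hu]
        · show polar Q (g.1.1 x.1) (g.1.1 w) = 0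
          rw [orth_polar, hw]
        · show (g : Orth Q) * (t : Orth Q) * (g : Orth Q)⁻¹ = _
          rw [h, siegel_conj]
          rfl)
    (by
      refine eq_top_iff.2 ((Subgroup.closure_closure_coe_preimage (k := siegelSet Q)).ge.trans
        ((Subgroup.closure_le _).2 ?_))
      rintro g hg
      obtain ⟨u, w, hu, hw, h⟩ := hg
      by_cases hu0 : u = 0
      · subst hu0
        have hg1 : g = 1 := Subtype.ext (by
          show (g : Orth Q) = 1
          rw [show (g : Orth Q) = _ from h]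
          exact orth_ext fun x => by simp [siegel_apply])
        rw [hg1]
        exact one_mem _
      · exact Subgroup.mem_iSup_of_mem (⟨u, hu0, hu⟩ : SingVec Q) (Or.inr ⟨w, hu, hw, h⟩))
    (by
      refine Group.isSolvable_of_comm fun a b => ?_
      apply Subtype.ext
      apply Subtype.ext
      exact rootGroup_comm a.2 b.2)
    (siegelGroup_perfect hnd P) N hN
  rcases this with h | h
  · left
    intro n hn
    refine scalar_of_fix_lines hnd P n.1 fun u hu0 hu => ?_
    obtain ⟨c, hc⟩ := (sameLine Q).symm (h n hn ⟨u, hu0, hu⟩)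
    exact ⟨c, hc.symm⟩
  · exact Or.inr h

omit hnd in
theorem siegel_e₁_a_ne_one :
    siegel Q P.e₁ P.a P.pair₁.1 (by rw [polar_comm]; exact P.ae₁) ≠ 1 := by
  intro h
  have h1 := congrArg (fun g : Orth Q => g.1 P.f₁) h
  simp only [siegel_apply, one_apply, polar_comm Q P.f₁ P.e₁, P.pair₁.2.2, polar_comm Q P.f₁ P.a,
    P.af₁, one_smul, neg_zero, mul_one, zero_sub, add_assoc, add_eq_left] at h1
  apply P.Qa
  have h2 := congrArg Q h1
  rw [Q_comb1, P.pair₁.1, P.ae₁, QuadraticMap.map_zero] at h2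
  simpa using h2

include P in
/-- The centre of the Siegel group is its intersection with `{1, -1}`. -/
theorem mem_center_siegelGroup_iff (g : siegelGroup Q) :
    g ∈ Subgroup.center (siegelGroup Q) ↔ (∀ x, g.1.1 x = x) ∨ (∀ x, g.1.1 x = -x) := by
  constructor
  · intro hg
    rcases normal_siegelGroup_dichotomy hnd P (Subgroup.center (siegelGroup Q)) inferInstance with
      h | h
    · exact h g hg
    · exfalso
      have hc : ∀ a b : siegelGroup Q, a * b = b * a := fun a b => by
        have hb : b ∈ Subgroup.center (siegelGroup Q) := by rw [h]; trivial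
        exact (Subgroup.mem_center_iff.1 hb a)
      have h1 : commutator (siegelGroup Q) = ⊥ := by
        rw [commutator_def, Subgroup.commutator_eq_bot_iff_le_centralizer]
        intro a _ b _
        exact hc b a
      rw [siegelGroup_perfect hnd P] at h1
      have h2 : (⟨_, siegel_mem P.pair₁.1 (by rw [polar_comm]; exact P.ae₁)⟩ : siegelGroup Q) = 1 :=
        Subgroup.mem_bot.1 (h1 ▸ Subgroup.mem_top _)
      exact siegel_e₁_a_ne_one P (congrArg Subtype.val h2)
  · intro h
    rw [Subgroup.mem_center_iff]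
    intro y
    apply Subtype.ext
    refine orth_ext fun x => ?_
    rcases h with h | h <;> simp [h]

include P in
theorem isSimpleGroup_siegel_quot :
    IsSimpleGroup (siegelGroup Q ⧸ Subgroup.center (siegelGroup Q)) := by
  have hne : Subgroup.center (siegelGroup Q) ≠ ⊤ := by
    intro h
    have h1 := (mem_center_siegelGroup_iff hnd P
      ⟨_, siegel_mem P.pair₁.1 (by rw [polar_comm]; exact P.ae₁)⟩).1 (by rw [h]; trivial)
    rcases h1 with h1 | h1
    · exact siegel_e₁_a_ne_one P (orth_ext h1)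
    · have h2 := h1 P.e₁
      rw [siegel_fix P.pair₁.1 _ (polar_singular_self P.pair₁.1)
        (by rw [polar_comm]; exact P.ae₁)] at h2
      apply siegel_e₁_a_ne_one P
      refine orth_ext fun x => ?_
      have h3 : (2 : F) • P.e₁ = 0 := by
        linear_combination (norm := module) h2
      have h4 : (2 : F) = 0 := (smul_eq_zero.1 h3).resolve_right P.pair₁.left_ne_zero
      rw [h1 x, one_apply]
      have : (2 : F) • x = 0 := by rw [h4, zero_smul]
      linear_combination (norm := module) (-1 : F) • this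
  haveI : Nontrivial (siegelGroup Q ⧸ Subgroup.center (siegelGroup Q)) :=
    QuotientGroup.nontrivial_iff.mpr hne
  refine ⟨fun N hN => ?_⟩
  rcases normal_siegelGroup_dichotomy hnd P (N.comap (QuotientGroup.mk' _)) inferInstance with
    h | h
  · left
    rw [eq_bot_iff]
    intro x hx
    obtain ⟨g, rfl⟩ := QuotientGroup.mk'_surjective _ x
    exact Subgroup.mem_bot.2 ((QuotientGroup.eq_one_iff g).2
      ((mem_center_siegelGroup_iff hnd P g).2 (h g hx)))
  · right
    rw [← Subgroup.map_comap_eq_self_of_surjective (QuotientGroup.mk'_surjective _) N, h,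
      Subgroup.map_top_of_surjective _ (QuotientGroup.mk'_surjective _)]

end Main

end CfsgLib.Classical.Quad
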