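import Cfsg.Agent.Lib.Classical.Quad.Basic
import Mathlib.LinearAlgebra.QuadraticForm.Prod
import Mathlib.FieldTheory.Finite.Basic
import Mathlib.LinearAlgebra.Dimension.Finite

/-!
The model forms `Σ x_i y_i + R(w)`: level counts and the order recursion for their isometry groups,
with the three anisotropic kernels of the standard forms.
-/

set_option autoImplicit false

namespace CfsgLib.Classical.Quad

open QuadraticMap Module

variable {F W V : Type*} [Field F] [AddCommGroup W] [Module F W] [AddCommGroup V] [Module F V]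

/-- The hyperbolic form on `(F^m) × (F^m)`. -/
def hyp (m : ℕ) (F : Type*) [Field F] : QuadraticForm F ((Fin m → F) × (Fin m → F)) :=
  ∑ i : Fin m, linMulLin ((LinearMap.proj i).comp (LinearMap.fst F (Fin m → F) (Fin m → F)))
    ((LinearMap.proj i).comp (LinearMap.snd F (Fin m → F) (Fin m → F)))

/-- The hyperbolic extension of `R`. -/
def hypForm (m : ℕ) (R : QuadraticForm F W) :
    QuadraticForm F (((Fin m → F) × (Fin m → F)) × W) := (hyp m F).prod R

theorem hypForm_apply (m : ℕ) (R : QuadraticForm F W) (v : ((Fin m → F) × (Fin m → F)) × W) :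
    hypForm m R v = (∑ i, v.1.1 i * v.1.2 i) + R v.2 := by
  simp [hypForm, hyp, QuadraticMap.sum_apply]

theorem polar_hypForm (m : ℕ) (R : QuadraticForm F W) (u v : ((Fin m → F) × (Fin m → F)) × W) :
    polar (hypForm m R) u v =
      (∑ i, (u.1.1 i * v.1.2 i + v.1.1 i * u.1.2 i)) + polar R u.2 v.2 := by
  simp only [polar, hypForm_apply, Prod.fst_add, Prod.snd_add, Pi.add_apply, add_mul, mul_add,
    Finset.sum_add_distrib]
  ring

theorem ndPolar_hypForm {R : QuadraticForm F W} (hR : NDPolar R) (m : ℕ) :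
    NDPolar (hypForm m R) := by
  intro u hu
  refine Prod.ext (Prod.ext (funext fun i => ?_) (funext fun i => ?_)) (hR _ fun w => ?_)
  · simpa [polar_hypForm, Pi.single_apply, polar_zero_right] using hu ((0, Pi.single i 1), 0)
  · simpa [polar_hypForm, Pi.single_apply, polar_zero_right] using hu ((Pi.single i 1, 0), 0)
  · simpa [polar_hypForm] using hu (0, w)

/-- The one-plane extension of a form. -/
def plane (R : QuadraticForm F V) : QuadraticForm F ((F × F) × V) :=
  (linMulLin (LinearMap.fst F F F) (LinearMap.snd F F F)).prod R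

theorem plane_apply (R : QuadraticForm F V) (v : (F × F) × V) :
    plane R v = v.1.1 * v.1.2 + R v.2 := by
  simp [plane]

theorem polar_plane (R : QuadraticForm F V) (u v : (F × F) × V) :
    polar (plane R) u v = u.1.1 * v.1.2 + v.1.1 * u.1.2 + polar R u.2 v.2 := by
  simp only [polar, plane_apply, Prod.fst_add, Prod.snd_add]
  ring

theorem ndPolar_plane {R : QuadraticForm F V} (hR : NDPolar R) : NDPolar (plane R) := by
  intro u hu
  refine Prod.ext (Prod.ext ?_ ?_) (hR _ fun w => ?_)
  · simpa [polar_plane, polar_zero_right] using hu ((0, 1), 0)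
  · simpa [polar_plane, polar_zero_right] using hu ((1, 0), 0)
  · simpa [polar_plane] using hu (0, w)

/-- Splitting off the first pair. -/
def hypSuccEquiv (m : ℕ) :
    (((Fin (m + 1) → F) × (Fin (m + 1) → F)) × W) ≃ₗ[F]
      ((F × F) × (((Fin m → F) × (Fin m → F)) × W)) where
  toFun v := ((v.1.1 0, v.1.2 0), ((Fin.tail v.1.1, Fin.tail v.1.2), v.2))
  invFun v := ((Fin.cons v.1.1 v.2.1.1, Fin.cons v.1.2 v.2.1.2), v.2.2)
  left_inv v := by simp
  right_inv v := by simp
  map_add' _ _ := rfl
  map_smul' _ _ := rfl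

theorem plane_hypSuccEquiv (m : ℕ) (R : QuadraticForm F W)
    (v : ((Fin (m + 1) → F) × (Fin (m + 1) → F)) × W) :
    plane (hypForm m R) (hypSuccEquiv m v) = hypForm (m + 1) R v := by
  rw [plane_apply, hypForm_apply, hypForm_apply, Fin.sum_univ_succ, add_assoc]
  rfl

/-- `hypForm 0 R` is `R`. -/
def hypZeroEquiv : (((Fin 0 → F) × (Fin 0 → F)) × W) ≃ₗ[F] W where
  toFun v := v.2
  invFun w := (0, w)
  left_inv v := Prod.ext (Subsingleton.elim _ _) rfl
  right_inv _ := rfl
  map_add' _ _ := rfl
  map_smul' _ _ := rfl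

theorem card_orth_hypForm_zero (R : QuadraticForm F W) :
    Nat.card (Orth (hypForm 0 R)) = Nat.card (Orth R) :=
  Nat.card_congr (orthCongr (hypZeroEquiv (F := F)) fun v => by
    simp [hypZeroEquiv, hypForm_apply]).toEquiv

/-! ### The order recursion -/

/-- The stabiliser of the standard pair of `plane R` is `O(R)`. -/
def planeStabEquiv (R : QuadraticForm F V) :
    {g : Orth (plane R) // g.1 ((1, 0), 0) = ((1, 0), 0) ∧ g.1 ((0, 1), 0) = ((0, 1), 0)}
      ≃ Orth R := by
  refine
    { toFun := fun g =>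
        ⟨{ toFun := fun v => (g.1.1 (0, v)).2
           invFun := fun v => ((g.1⁻¹).1 (0, v)).2
           map_add' := fun x y => by
             rw [← Prod.snd_add, ← map_add, Prod.mk_add_mk, add_zero]
           map_smul' := fun c x => by
             rw [RingHom.id_apply, ← Prod.smul_snd, ← map_smul, Prod.smul_mk, smul_zero]
           left_inv := ?_, right_inv := ?_ }, ?_⟩
      invFun := fun h => ⟨⟨(LinearEquiv.refl F (F × F)).prodCongr h.1, fun v => by
        simp [plane_apply, orth_Q]⟩, by simp, by simp⟩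
      left_inv := ?_, right_inv := ?_ }
  all_goals
    have key : ∀ (k : Orth (plane R)), k.1 ((1, 0), 0) = ((1, 0), 0) →
        k.1 ((0, 1), 0) = ((0, 1), 0) → ∀ v, k.1 (0, v) = (0, (k.1 (0, v)).2) := by
      intro k h1 h2 v
      refine Prod.ext (Prod.ext ?_ ?_) rfl
      · have h := orth_polar k ((0, 1), 0) (0, v)
        rw [h2] at h
        simpa [polar_plane] using h
      · have h := orth_polar k ((1, 0), 0) (0, v)
        rw [h1] at h
        simpa [polar_plane] using h
    have kinv : ∀ (k : Orth (plane R)) (x : (F × F) × V), k.1 x = x → (k⁻¹).1 x = x := fun k x h => by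
      conv_lhs => rw [← h]
      exact inv_apply_self k x
  · intro v
    show ((g.1⁻¹).1 (0, (g.1.1 (0, v)).2)).2 = v
    rw [← key g.1 g.2.1 g.2.2 v, inv_apply_self]
  · intro v
    show (g.1.1 (0, ((g.1⁻¹).1 (0, v)).2)).2 = v
    rw [← key g.1⁻¹ (kinv _ _ g.2.1) (kinv _ _ g.2.2) v, self_apply_inv]
  · intro v
    show R (g.1.1 (0, v)).2 = R v
    have h := orth_Q g.1 (0, v)
    rw [key g.1 g.2.1 g.2.2 v] at h
    simpa [plane_apply] using h
  · intro g
    refine Subtype.ext (orth_ext fun x => ?_)
    show (x.1, (g.1.1 (0, x.2)).2) = g.1.1 x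
    have hx : x = x.1.1 • ((1, 0), 0) + x.1.2 • ((0, 1), 0) + (0, x.2) := by
      ext <;> simp
    conv_rhs => rw [hx, map_add, map_add, map_smul, map_smul, g.2.1, g.2.2, key g.1 g.2.1 g.2.2 x.2]
    ext <;> simp
  · intro h
    exact orth_ext fun v => rfl

/-- One step of the order recursion. -/
theorem card_orth_plane [Finite F] [Finite V] [FiniteDimensional F V] {R : QuadraticForm F V}
    (hR : NDPolar R) :
    Nat.card (Orth (plane R)) = (Nat.card {u : (F × F) × V // plane R u = 0} - 1) * Nat.card V
      * Nat.card (Orth R) := by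
  classical
  set p₁ : (F × F) × V := ((1, 0), 0)
  set p₂ : (F × F) × V := ((0, 1), 0)
  have hp : IsHPair (plane R) p₁ p₂ := ⟨by simp [p₁, plane_apply], by simp [p₂, plane_apply],
    by simp [p₁, p₂, polar_plane]⟩
  let P := {x : ((F × F) × V) × ((F × F) × V) // IsHPair (plane R) x.1 x.2}
  choose sec hsec1 hsec2 using fun x : P => exists_map_hpair (ndPolar_plane hR) hp x.2
  let e1 : Orth (plane R) ≃ P × {g : Orth (plane R) // g.1 p₁ = p₁ ∧ g.1 p₂ = p₂} :=
    { toFun := fun g => (⟨(g.1 p₁, g.1 p₂), hp.map g⟩, ⟨(sec ⟨(g.1 p₁, g.1 p₂), hp.map g⟩)⁻¹ * g, by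
        constructor
        · rw [mul_apply]
          exact (congrArg _ (hsec1 ⟨(g.1 p₁, g.1 p₂), hp.map g⟩).symm).trans (inv_apply_self _ p₁)
        · rw [mul_apply]
          exact (congrArg _ (hsec2 ⟨(g.1 p₁, g.1 p₂), hp.map g⟩).symm).trans (inv_apply_self _ p₂)⟩)
      invFun := fun y => sec y.1 * y.2.1
      left_inv := fun g => by simp
      right_inv := fun y => by
        have h : (⟨((sec y.1 * y.2.1).1 p₁, (sec y.1 * y.2.1).1 p₂), hp.map _⟩ : P) = y.1 :=
          Subtype.ext (Prod.ext
            (by show (sec y.1 * y.2.1).1 p₁ = _; rw [mul_apply, y.2.2.1]; exact hsec1 y.1)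
            (by show (sec y.1 * y.2.1).1 p₂ = _; rw [mul_apply, y.2.2.2]; exact hsec2 y.1))
        refine Prod.ext h (Subtype.ext ?_)
        show (sec _)⁻¹ * (sec y.1 * y.2.1) = y.2.1
        rw [h, inv_mul_cancel_left] }
  let S := {u : {u : (F × F) × V // plane R u = 0} // u ≠ ⟨0, QuadraticMap.map_zero _⟩}
  have hS : ∀ u : S, u.1.1 ≠ 0 := fun u h => u.2 (Subtype.ext h)
  choose mv hmv using fun u : S =>
    exists_refl_singular (ndPolar_plane hR) hp.left_ne_zero (hS u) hp.1 u.1.2
  let e2 : P ≃ S × V :=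
    { toFun := fun x => (⟨⟨x.1.1, x.2.1⟩, fun h => x.2.left_ne_zero (congrArg Subtype.val h)⟩,
        ((mv ⟨⟨x.1.1, x.2.1⟩, fun h => x.2.left_ne_zero (congrArg Subtype.val h)⟩)⁻¹).1 x.1.2 |>.2)
      invFun := fun y => ⟨(y.1.1.1, (mv y.1).1 ((-R y.2, 1), y.2)), by
        have h : IsHPair (plane R) p₁ ((-R y.2, 1), y.2) := ⟨hp.1, by simp [plane_apply],
          by simp [p₁, polar_plane]⟩
        have := h.map (mv y.1)
        rwa [hmv y.1] at this⟩
      left_inv := fun x => by
        set u : S := ⟨⟨x.1.1, x.2.1⟩, fun h => x.2.left_ne_zero (congrArg Subtype.val h)⟩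
        refine Subtype.ext (Prod.ext rfl ?_)
        show (mv u).1 _ = x.1.2
        have h := x.2.map (mv u)⁻¹
        have h1 : ((mv u)⁻¹).1 x.1.1 = p₁ := by
          rw [show x.1.1 = (mv u).1 p₁ from (hmv u).symm, inv_apply_self]
        rw [h1] at h
        obtain ⟨-, hz, hz1⟩ := h
        set z := ((mv u)⁻¹).1 x.1.2 with hzdef
        have hy : z.1.2 = 1 := by simpa [p₁, polar_plane] using hz1
        have hx : z.1.1 = -R z.2 := by
          rw [plane_apply, hy, mul_one] at hz
          exact eq_neg_of_add_eq_zero_left hz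
        have : ((-R z.2, 1), z.2) = z := Prod.ext (Prod.ext hx.symm hy.symm) rfl
        rw [this, hzdef, self_apply_inv]
      right_inv := fun y => by
        refine Prod.ext rfl ?_
        show (((mv y.1)⁻¹).1 ((mv y.1).1 _)).2 = y.2
        rw [inv_apply_self] }
  have hSc : Nat.card S = Nat.card {u : (F × F) × V // plane R u = 0} - 1 := by
    letI := Fintype.ofFinite {u : (F × F) × V // plane R u = 0}
    rw [Nat.card_eq_fintype_card, Nat.card_eq_fintype_card, Fintype.card_subtype_compl,
      Fintype.card_subtype_eq]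
  rw [Nat.card_congr e1, Nat.card_prod, Nat.card_congr (planeStabEquiv R), Nat.card_congr e2,
    Nat.card_prod, hSc]

/-- One step of the order recursion for the model forms. -/
theorem card_orth_hypForm_succ [Finite F] [Finite W] [FiniteDimensional F W] {R : QuadraticForm F W}
    (hR : NDPolar R) (m : ℕ) :
    Nat.card (Orth (hypForm (m + 1) R)) =
      (Nat.card {v : ((Fin (m + 1) → F) × (Fin (m + 1) → F)) × W // hypForm (m + 1) R v = 0} - 1)
        * (Nat.card F ^ (2 * m) * Nat.card W) * Nat.card (Orth (hypForm m R)) := by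
  rw [Nat.card_congr (orthCongr (hypSuccEquiv m) (plane_hypSuccEquiv m R)).toEquiv,
    card_orth_plane (ndPolar_hypForm hR m),
    ← Nat.card_congr ((hypSuccEquiv (F := F) (W := W) m).toEquiv.subtypeEquiv
      (p := fun v => hypForm (m + 1) R v = 0) (q := fun v => plane (hypForm m R) v = 0)
      fun v => by rw [LinearEquiv.coe_toEquiv, plane_hypSuccEquiv])]
  simp [Nat.card_prod, Nat.card_fun, two_mul, pow_add]

theorem card_hyperplane [Finite F] {m : ℕ} (x : Fin m → F) (hx : x ≠ 0) (d : F) :
    Nat.card {y : Fin m → F // ∑ i, x i * y i = d} = Nat.card F ^ (m - 1) := by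
  classical
  obtain ⟨i, hi⟩ := Function.ne_iff.1 hx
  let φ : (Fin m → F) →ₗ[F] F := ∑ j, x j • LinearMap.proj j
  have hφ : ∀ y, φ y = ∑ j, x j * y j := fun y => by simp [φ]
  have hy0 : φ (Pi.single i (d * (x i)⁻¹)) = d := by
    rw [hφ, Finset.sum_eq_single i (fun j _ hj => by simp [hj]) (by simp)]
    simp only [Pi.single_eq_same]
    field_simp [show x i ≠ 0 by simpa using hi]
  have hsurj : LinearMap.range φ = ⊤ := by
    refine LinearMap.range_eq_top.2 fun c => ⟨Pi.single i (c * (x i)⁻¹), ?_⟩
    rw [hφ, Finset.sum_eq_single i (fun j _ hj => by simp [hj]) (by simp)]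
    simp only [Pi.single_eq_same]
    field_simp [show x i ≠ 0 by simpa using hi]
  have h1 := LinearMap.finrank_range_add_finrank_ker φ
  rw [hsurj, finrank_top, finrank_self, Module.finrank_fin_fun] at h1
  have hk : finrank F (LinearMap.ker φ) = m - 1 := by omega
  have e : {y : Fin m → F // ∑ i, x i * y i = d} ≃ LinearMap.ker φ :=
    (Equiv.addRight (-(Pi.single i (d * (x i)⁻¹)))).subtypeEquiv fun y => by
      rw [← hφ, LinearMap.mem_ker, Equiv.coe_addRight, map_add, map_neg, hy0, ← sub_eq_add_neg,
        sub_eq_zero]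
  rw [Nat.card_congr e, Module.natCard_eq_pow_finrank (K := F), hk]

/-- The level counts of the model forms. -/
theorem card_level_hypForm [Finite F] [Finite W] (m : ℕ) (R : QuadraticForm F W) (c : F) :
    Nat.card {v : ((Fin m → F) × (Fin m → F)) × W // hypForm m R v = c} =
      (Nat.card F ^ m - 1) * Nat.card F ^ (m - 1) * Nat.card W
        + Nat.card F ^ m * Nat.card {w : W // R w = c} := by
  classical
  cases nonempty_fintype F
  cases nonempty_fintype W
  let e : {v : ((Fin m → F) × (Fin m → F)) × W // hypForm m R v = c} ≃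
      Σ x : Fin m → F, {p : W × (Fin m → F) // ∑ i, x i * p.2 i = c - R p.1} :=
    { toFun := fun v => ⟨v.1.1.1, (v.1.2, v.1.1.2), by
        have h := v.2
        rw [hypForm_apply] at h
        exact eq_sub_of_add_eq h⟩
      invFun := fun s => ⟨((s.1, s.2.1.2), s.2.1.1), by
        rw [hypForm_apply]
        exact add_eq_of_eq_sub s.2.2⟩
      left_inv := fun _ => rfl
      right_inv := fun _ => rfl }
  rw [Nat.card_congr e, Nat.card_sigma, ← Finset.add_sum_erase _ _ (Finset.mem_univ (0 : Fin m → F))]
  have h0 : Nat.card {p : W × (Fin m → F) // ∑ i, (0 : Fin m → F) i * p.2 i = c - R p.1}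
      = Nat.card F ^ m * Nat.card {w : W // R w = c} := by
    have h : {p : W × (Fin m → F) // ∑ i, (0 : Fin m → F) i * p.2 i = c - R p.1} ≃
        {w : W // R w = c} × (Fin m → F) :=
      { toFun := fun p => (⟨p.1.1, by
          have h := p.2
          simp only [Pi.zero_apply, zero_mul, Finset.sum_const_zero] at h
          exact (sub_eq_zero.1 h.symm).symm⟩, p.1.2)
        invFun := fun p => ⟨(p.1.1, p.2), by simp [p.1.2]⟩
        left_inv := fun _ => rfl
        right_inv := fun _ => rfl }
    rw [Nat.card_congr h, Nat.card_prod, Nat.card_fun, Nat.card_fin, mul_comm]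
  have h1 : ∀ x ∈ Finset.univ.erase (0 : Fin m → F),
      Nat.card {p : W × (Fin m → F) // ∑ i, x i * p.2 i = c - R p.1}
        = Nat.card W * Nat.card F ^ (m - 1) := by
    intro x hx
    have h : {p : W × (Fin m → F) // ∑ i, x i * p.2 i = c - R p.1} ≃
        Σ w : W, {y : Fin m → F // ∑ i, x i * y i = c - R w} :=
      { toFun := fun p => ⟨p.1.1, p.1.2, p.2⟩
        invFun := fun s => ⟨(s.1, s.2.1), s.2.2⟩
        left_inv := fun _ => rfl
        right_inv := fun _ => rfl }
    rw [Nat.card_congr h, Nat.card_sigma,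
      Finset.sum_congr rfl fun w _ => card_hyperplane x (Finset.ne_of_mem_erase hx) _,
      Finset.sum_const, Finset.card_univ, smul_eq_mul, ← Nat.card_eq_fintype_card]
  rw [h0, Finset.sum_congr rfl h1, Finset.sum_const, Finset.card_erase_of_mem (Finset.mem_univ _),
    Finset.card_univ, Fintype.card_fun, Fintype.card_fin, smul_eq_mul, ← Nat.card_eq_fintype_card]
  ring

/-! ### The anisotropic kernels -/

/-- The zero form on the zero space. -/
abbrev zeroKernel (F : Type*) [Field F] : QuadraticForm F (Fin 0 → F) := 0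

theorem ndPolar_zeroKernel : NDPolar (zeroKernel F) := fun _ _ => Subsingleton.elim _ _

theorem card_orth_zeroKernel : Nat.card (Orth (zeroKernel F)) = 1 := by
  rw [Nat.card_eq_one_iff_unique]
  exact ⟨⟨fun g h => orth_ext fun x => Subsingleton.elim _ _⟩, ⟨1⟩⟩

/-- The form `x²`. -/
def lineForm (F : Type*) [Field F] : QuadraticForm F (Unit → F) :=
  linMulLin (LinearMap.proj ()) (LinearMap.proj ())

theorem lineForm_apply (v : Unit → F) : lineForm F v = v () * v () := by simp [lineForm]

theorem polar_lineForm (u v : Unit → F) : polar (lineForm F) u v = 2 * (u () * v ()) := by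
  simp only [polar, lineForm_apply, Pi.add_apply]
  ring

theorem ndPolar_lineForm (h2 : (2 : F) ≠ 0) : NDPolar (lineForm F) := by
  intro u hu
  funext i
  simpa [polar_lineForm, h2] using hu 1

theorem card_orth_lineForm (h2 : (2 : F) ≠ 0) : Nat.card (Orth (lineForm F)) = 2 := by
  set σ : Orth (lineForm F) := ⟨LinearEquiv.neg F, fun x => by simp [QuadraticMap.map_neg]⟩ with hσ
  have hne : σ ≠ 1 := by
    intro h
    have h' := congrArg (fun g : Orth (lineForm F) => g.1 1 ()) h
    simp [hσ] at h'
    exact h2 (by linear_combination -h')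
  have hall : ∀ g : Orth (lineForm F), g = 1 ∨ g = σ := by
    intro g
    have h := orth_Q g 1
    simp only [lineForm_apply, Pi.one_apply, mul_one] at h
    have hg : ∀ x : Unit → F, g.1 x = x () • g.1 1 := fun x => by
      conv_lhs => rw [show x = x () • (1 : Unit → F) from funext fun i => by simp]
      rw [map_smul]
    rcases mul_self_eq_one_iff.1 h with h1 | h1
    · exact Or.inl (orth_ext fun x => funext fun i => by simp [hg x, h1])
    · exact Or.inr (orth_ext fun x => funext fun i => by simp [hg x, h1, hσ])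
  rw [Nat.card_eq_two_iff]
  exact ⟨1, σ, hne.symm, Set.eq_univ_of_forall hall⟩

/-- The binary form `z₁² + a z₁z₂ + b z₂²`. -/
def binForm (a b : F) : QuadraticForm F (Fin 2 → F) :=
  linMulLin (LinearMap.proj 0) (LinearMap.proj 0) + a • linMulLin (LinearMap.proj 0) (LinearMap.proj 1)
    + b • linMulLin (LinearMap.proj 1) (LinearMap.proj 1)

theorem binForm_apply (a b : F) (v : Fin 2 → F) :
    binForm a b v = v 0 ^ 2 + a * v 0 * v 1 + b * v 1 ^ 2 := by
  simp [binForm]
  ring

theorem polar_binForm (a b : F) (u v : Fin 2 → F) :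
    polar (binForm a b) u v = 2 * (u 0 * v 0) + a * (u 0 * v 1 + v 0 * u 1) + 2 * b * (u 1 * v 1) := by
  simp only [polar, binForm_apply, Pi.add_apply]
  ring

/-- The binary form has no non-trivial zero. -/
def IsAniso (a b : F) : Prop := ∀ z₁ z₂ : F, z₁ ^ 2 + a * z₁ * z₂ + b * z₂ ^ 2 = 0 → z₁ = 0 ∧ z₂ = 0

section Bin

variable [Fintype F] {a b : F}

theorem IsAniso.disc (hab : IsAniso a b) : 4 * b - a ^ 2 ≠ 0 := by
  intro h
  by_cases h2 : (2 : F) = 0
  · have ha : a = 0 := by
      have : a ^ 2 = 0 := by linear_combination -h + 2 * b * h2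
      simpa using this
    obtain ⟨s, rfl⟩ := FiniteField.isSquare_of_char_two (by
      have h' : ((2 : ℕ) : F) = 0 := by exact_mod_cast h2
      have hd := (ringChar.spec F 2).1 h'
      exact ((Nat.prime_dvd_prime_iff_eq (CharP.char_is_prime F _) Nat.prime_two).1 hd)) b
    exact one_ne_zero (hab s 1 (by linear_combination s * ha + s * s * h2)).2
  · exact one_ne_zero ((hab (-a / 2) 1 (by field_simp; linear_combination h)).2)

theorem ndPolar_binForm (hab : IsAniso a b) : NDPolar (binForm a b) := by
  intro u hu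
  have h0 := hu ![1, 0]
  have h1 := hu ![0, 1]
  simp [polar_binForm] at h0 h1
  have hd := hab.disc
  have e0 : (4 * b - a ^ 2) * u 0 = 0 := by linear_combination 2 * b * h0 - a * h1
  have e1 : (4 * b - a ^ 2) * u 1 = 0 := by linear_combination -a * h0 + 2 * h1
  funext i
  fin_cases i
  · exact (mul_eq_zero.1 e0).resolve_left hd
  · exact (mul_eq_zero.1 e1).resolve_left hd

theorem binForm_eq_zero (hab : IsAniso a b) {v : Fin 2 → F} (h : binForm a b v = 0) : v = 0 := by
  obtain ⟨h0, h1⟩ := hab _ _ (by rwa [binForm_apply] at h)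
  funext i
  fin_cases i <;> assumption

/-- Multiplication in the algebra of the binary form. -/
def binMul (a b : F) (v : Fin 2 → F) : (Fin 2 → F) →ₗ[F] Fin 2 → F where
  toFun w := ![v 0 * w 0 - b * v 1 * w 1, v 0 * w 1 + v 1 * w 0 + a * v 1 * w 1]
  map_add' x y := by funext i; fin_cases i <;> simp <;> ring
  map_smul' c x := by funext i; fin_cases i <;> simp <;> ring

theorem binForm_binMul (a b : F) (v w : Fin 2 → F) :
    binForm a b (binMul a b v w) = binForm a b v * binForm a b w := by
  simp [binMul, binForm_apply]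
  ring

theorem exists_binForm_eq (hab : IsAniso a b) (c : F) : ∃ v, binForm a b v = c := by
  by_cases h2 : ringChar F = 2
  · obtain ⟨s, rfl⟩ := FiniteField.isSquare_of_char_two h2 c
    exact ⟨![s, 0], by simp [binForm_apply]; ring⟩
  · have h2' : (2 : F) ≠ 0 := Ring.two_ne_zero h2
    set D := b - a ^ 2 / 4
    have hD : D ≠ 0 := by
      intro h
      apply hab.disc
      have h4 : (4 : F) ≠ 0 := by
        rw [show (4 : F) = 2 * 2 by norm_num]; exact mul_ne_zero h2' h2'
      have : b = a ^ 2 / 4 := sub_eq_zero.1 h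
      rw [this]; field_simp; ring
    obtain ⟨x, y, hxy⟩ := FiniteField.exists_root_sum_quadratic (f := (Polynomial.X ^ 2 : Polynomial F))
      (g := Polynomial.C D * Polynomial.X ^ 2 - Polynomial.C c) (by simp)
      (by
        rw [Polynomial.degree_sub_eq_left_of_degree_lt] <;> rw [Polynomial.degree_C_mul_X_pow 2 hD]
        · rfl
        · exact lt_of_le_of_lt Polynomial.degree_C_le (by decide))
      (FiniteField.odd_card_of_char_ne_two h2)
    simp at hxy
    refine ⟨![x - a / 2 * y, y], ?_⟩
    simp [binForm_apply]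
    have h4 : (4 : F) ≠ 0 := by
      rw [show (4 : F) = 2 * 2 by norm_num]; exact mul_ne_zero h2' h2'
    have hD' : D = b - a ^ 2 / 4 := rfl
    rw [hD'] at hxy
    field_simp at hxy ⊢
    linear_combination hxy

theorem card_level_binForm (hab : IsAniso a b) {c : F} (hc : c ≠ 0) :
    Nat.card {v : Fin 2 → F // binForm a b v = c} = Fintype.card F + 1 := by
  classical
  have hall : ∀ d : F, d ≠ 0 → Nat.card {v : Fin 2 → F // binForm a b v = d}
      = Nat.card {v : Fin 2 → F // binForm a b v = c} := by
    intro d hd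
    obtain ⟨u, hu⟩ := exists_binForm_eq hab (d / c)
    obtain ⟨u', hu'⟩ := exists_binForm_eq hab (c / d)
    have inj : ∀ (w : Fin 2 → F) (hw : binForm a b w ≠ 0), Function.Injective (binMul a b w) := by
      intro w hw
      rw [← LinearMap.ker_eq_bot, eq_bot_iff]
      intro x hx
      refine binForm_eq_zero hab ?_
      have h := binForm_binMul a b w x
      rw [LinearMap.mem_ker.1 hx, QuadraticMap.map_zero] at h
      exact (mul_eq_zero.1 h.symm).resolve_left hw
    refine le_antisymm
      (Nat.card_le_card_of_injective (fun v => ⟨binMul a b u' v.1, by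
        rw [binForm_binMul, hu', v.2, div_mul_cancel₀ _ hd]⟩)
        (fun x y h => Subtype.ext (inj u' (by rw [hu']; exact div_ne_zero hc hd)
          (congrArg (fun z : {v : Fin 2 → F // binForm a b v = c} => z.1) h))))
      (Nat.card_le_card_of_injective (fun v => ⟨binMul a b u v.1, by
        rw [binForm_binMul, hu, v.2, div_mul_cancel₀ _ hc]⟩)
        (fun x y h => Subtype.ext (inj u (by rw [hu]; exact div_ne_zero hd hc)
          (congrArg (fun z : {v : Fin 2 → F // binForm a b v = d} => z.1) h))))
  have hsum : ∑ d : F, Nat.card {v : Fin 2 → F // binForm a b v = d} = Fintype.card F ^ 2 := by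
    rw [← Nat.card_sigma, Nat.card_congr (Equiv.sigmaFiberEquiv _), Nat.card_fun, Nat.card_fin,
      Nat.card_eq_fintype_card]
  have h0 : Nat.card {v : Fin 2 → F // binForm a b v = 0} = 1 := by
    rw [Nat.card_eq_one_iff_unique]
    exact ⟨⟨fun x y => Subtype.ext (by rw [binForm_eq_zero hab x.2, binForm_eq_zero hab y.2])⟩,
      ⟨⟨0, QuadraticMap.map_zero _⟩⟩⟩
  rw [← Finset.add_sum_erase _ _ (Finset.mem_univ (0 : F)), h0,
    Finset.sum_congr rfl fun d hd => hall d (Finset.ne_of_mem_erase hd), Finset.sum_const,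
    Finset.card_erase_of_mem (Finset.mem_univ _), Finset.card_univ, smul_eq_mul] at hsum
  obtain ⟨k, hk⟩ : ∃ k, Fintype.card F = k + 2 := ⟨Fintype.card F - 2, by
    have := Fintype.one_lt_card (α := F); omega⟩
  rw [hk, show k + 2 - 1 = k + 1 by omega] at hsum
  have : (k + 1) * Nat.card {v : Fin 2 → F // binForm a b v = c} = (k + 1) * (k + 2 + 1) := by
    have : (k + 1) * (k + 2 + 1) + 1 = (k + 2) ^ 2 := by ring
    omega
  rw [hk]
  exact Nat.eq_of_mul_eq_mul_left (by omega) this

theorem card_orth_binForm (hab : IsAniso a b) :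
    Nat.card (Orth (binForm a b)) = 2 * (Fintype.card F + 1) := by
  classical
  set e₀ : Fin 2 → F := ![1, 0]
  have hQe : binForm a b e₀ = 1 := by simp [e₀, binForm_apply]
  let L := {v : Fin 2 → F // binForm a b v = 1}
  have inj : ∀ v : L, Function.Injective (binMul a b v.1) := by
    intro v
    rw [← LinearMap.ker_eq_bot, eq_bot_iff]
    intro x hx
    refine binForm_eq_zero hab ?_
    have h := binForm_binMul a b v.1 x
    rw [LinearMap.mem_ker.1 hx, QuadraticMap.map_zero, v.2, one_mul] at h
    exact h.symm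
  let rot : L → Orth (binForm a b) := fun v =>
    ⟨LinearEquiv.ofInjectiveEndo (binMul a b v.1) (inj v), fun x => by
      rw [LinearEquiv.coe_ofInjectiveEndo, binForm_binMul, v.2, one_mul]⟩
  have hrot : ∀ v : L, (rot v).1 e₀ = v.1 := fun v => by
    show binMul a b v.1 e₀ = v.1
    funext i
    fin_cases i <;> simp [binMul, e₀]
  let St := {g : Orth (binForm a b) // g.1 e₀ = e₀}
  let e : Orth (binForm a b) ≃ L × St :=
    { toFun := fun g => (⟨g.1 e₀, by rw [orth_Q, hQe]⟩,
        ⟨(rot ⟨g.1 e₀, by rw [orth_Q, hQe]⟩)⁻¹ * g, by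
          rw [mul_apply]
          exact (congrArg _ (hrot ⟨g.1 e₀, by rw [orth_Q, hQe]⟩).symm).trans (inv_apply_self _ e₀)⟩)
      invFun := fun y => rot y.1 * y.2.1
      left_inv := fun g => by simp
      right_inv := fun y => by
        have h : (⟨(rot y.1 * y.2.1).1 e₀, by rw [orth_Q, hQe]⟩ : L) = y.1 :=
          Subtype.ext (by show (rot y.1 * y.2.1).1 e₀ = _; rw [mul_apply, y.2.2]; exact hrot y.1)
        refine Prod.ext h (Subtype.ext ?_)
        show (rot _)⁻¹ * (rot y.1 * y.2.1) = y.2.1
        rw [h, inv_mul_cancel_left] }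
  let σf : (Fin 2 → F) →ₗ[F] Fin 2 → F :=
    { toFun := fun w => ![w 0 + a * w 1, -(w 1)]
      map_add' := fun x y => by funext i; fin_cases i <;> simp <;> ring
      map_smul' := fun c x => by funext i; fin_cases i <;> simp <;> ring }
  have hσσ : ∀ w, σf (σf w) = w := fun w => by
    funext i; fin_cases i <;> simp [σf]
  let σ : St := ⟨⟨LinearEquiv.ofLinear σf σf (LinearMap.ext hσσ) (LinearMap.ext hσσ), fun x => by
    simp [σf, binForm_apply]; ring⟩, by funext i; fin_cases i <;> simp [σf, e₀]⟩
  let one' : St := ⟨1, rfl⟩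
  have hne : σ ≠ one' := by
    intro h
    have h' := congrArg (fun g : St => g.1.1 ![0, 1]) h
    have h0 := congrFun h' 0
    have h1 := congrFun h' 1
    simp [σ, σf, one'] at h0 h1
    exact hab.disc (by linear_combination (-(2 * b)) * h1 - a * h0)
  have hSt : Nat.card St = 2 := by
    rw [Nat.card_eq_two_iff]
    refine ⟨one', σ, hne.symm, Set.eq_univ_of_forall fun g => ?_⟩
    set z := g.1.1 ![0, 1] with hz
    have hQz : binForm a b z = b := by rw [hz, orth_Q]; simp [binForm_apply]
    have hpz : polar (binForm a b) e₀ z = a := by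
      have h := orth_polar g.1 e₀ ![0, 1]
      rw [g.2] at h
      rw [hz, h]
      simp [e₀, polar_binForm]
    rw [binForm_apply] at hQz
    simp [e₀, polar_binForm] at hpz
    have hdet : ∀ x, g.1.1 x = x 0 • e₀ + x 1 • z := fun x => by
      have hx : x = x 0 • e₀ + x 1 • ![0, 1] := by funext i; fin_cases i <;> simp [e₀]
      conv_lhs => rw [hx, map_add, map_smul, map_smul, g.2, ← hz]
    have ht : (4 * b - a ^ 2) * (z 1 * z 1 - 1) = 0 := by
      linear_combination 4 * hQz - (2 * z 0 + a * z 1 + a) * hpz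
    have key : (z 0 = 0 ∧ z 1 = 1) ∨ (z 0 = a ∧ z 1 = -1) := by
      by_cases h2 : (2 : F) = 0
      · have ht1 : z 1 = 1 := by
          rcases mul_self_eq_one_iff.1 (sub_eq_zero.1 ((mul_eq_zero.1 ht).resolve_left hab.disc))
            with h | h
          · exact h
          · linear_combination h + (-1 : F) * h2
        have hs : z 0 * (z 0 + a) = 0 := by
          rw [ht1] at hQz; linear_combination hQz
        rcases mul_eq_zero.1 hs with h | h
        · exact Or.inl ⟨h, ht1⟩
        · exact Or.inr ⟨by linear_combination h + (-a) * h2, by linear_combination ht1 + (1 : F) * h2⟩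
      · rcases mul_self_eq_one_iff.1 (sub_eq_zero.1 ((mul_eq_zero.1 ht).resolve_left hab.disc))
          with h | h
        · left
          refine ⟨mul_left_cancel₀ h2 ?_, h⟩
          rw [h] at hpz; linear_combination hpz
        · right
          refine ⟨mul_left_cancel₀ h2 ?_, h⟩
          rw [h] at hpz; linear_combination hpz
    rcases key with ⟨k0, k1⟩ | ⟨k0, k1⟩
    · left
      refine Subtype.ext (orth_ext fun x => ?_)
      rw [hdet]
      funext i; fin_cases i <;> simp [e₀, k0, k1, one']
    · right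
      refine Subtype.ext (orth_ext fun x => ?_)
      rw [hdet]
      funext i; fin_cases i <;> simp [e₀, k0, k1, σ, σf] <;> ring
  rw [Nat.card_congr e, Nat.card_prod, hSt, card_level_binForm hab one_ne_zero, mul_comm]

end Bin

end CfsgLib.Classical.Quad
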