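import Cfsg.Agent.Lib.Classical.Quad.Index
import Cfsg.Agent.Lib.Classical.Quad.Model

/-!
The standard forms `Cfsg.quadFormPlus`, `Cfsg.quadFormMinus`, `Cfsg.quadFormOdd`: level counts,
orders of the isometry groups, and the orders and simplicity of `POmega`.
-/

set_option autoImplicit false

namespace CfsgLib.Classical.Quad

open QuadraticMap Module

/-! ### Generalities -/

theorem map_center_mulEquiv {A B : Type*} [Group A] [Group B] (e : A ≃* B) :
    (Subgroup.center A).map (e : A →* B) = Subgroup.center B := by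
  ext b
  constructor
  · rintro ⟨a, ha, rfl⟩
    rw [Subgroup.mem_center_iff]
    intro b
    obtain ⟨a', rfl⟩ := e.surjective b
    show e a' * e a = e a * e a'
    rw [← map_mul, ← map_mul, Subgroup.mem_center_iff.1 ha]
  · intro hb
    refine ⟨e.symm b, Subgroup.mem_center_iff.2 fun a => e.injective ?_, e.apply_symm_apply b⟩
    rw [map_mul, map_mul, e.apply_symm_apply]
    exact Subgroup.mem_center_iff.1 hb _

/-- An isomorphism restricted to the commutator subgroups. -/
noncomputable def commutatorEquiv {A B : Type*} [Group A] [Group B] (e : A ≃* B) :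
    commutator A ≃* commutator B :=
  (e.subgroupMap (commutator A)).trans (MulEquiv.subgroupCongr (by
    rw [commutator_def, Subgroup.map_commutator, Subgroup.map_top_of_surjective _ e.surjective,
      commutator_def]))

/-- Isomorphic groups have isomorphic central quotients. -/
noncomputable def centralQuotientEquiv {A B : Type*} [Group A] [Group B] (e : A ≃* B) :
    A ⧸ Subgroup.center A ≃* B ⧸ Subgroup.center B :=
  QuotientGroup.congr _ _ e (map_center_mulEquiv e)

variable {F : Type*} [Field F]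

section Bridge

variable {ι : Type} [Fintype ι] [DecidableEq ι] {Qf : (ι → F) → F}
variable {V : Type*} [AddCommGroup V] [Module F V] {Q : QuadraticForm F V}

/-- `Cfsg.isometryGroup` of a function equivalent to a quadratic form. -/
noncomputable def isometryEquivModel (e : (ι → F) ≃ₗ[F] V) (he : ∀ v, Q (e v) = Qf v) :
    Cfsg.isometryGroup F Qf ≃* Orth Q :=
  (isometryGroupEquiv (Q.comp (e : (ι → F) →ₗ[F] V)) he).trans (orthCongr e fun _ => rfl)

/-- `Cfsg.POmega` of a form with Witt index at least 2, as a quotient of the Siegel group. -/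
noncomputable def pomegaEquiv [FiniteDimensional F V] (e : (ι → F) ≃ₗ[F] V)
    (he : ∀ v, Q (e v) = Qf v) (hnd : NDPolar Q) (P : Frame Q) :
    Cfsg.POmega F Qf ≃* siegelGroup Q ⧸ Subgroup.center (siegelGroup Q) :=
  centralQuotientEquiv ((commutatorEquiv (isometryEquivModel e he)).trans
    (MulEquiv.subgroupCongr (commutator_orth_eq hnd P)))

theorem isSimpleGroup_pomega [FiniteDimensional F V] (e : (ι → F) ≃ₗ[F] V)
    (he : ∀ v, Q (e v) = Qf v) (hnd : NDPolar Q) (P : Frame Q) :
    IsSimpleGroup (Cfsg.POmega F Qf) := by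
  have := isSimpleGroup_siegel_quot hnd P
  have := (pomegaEquiv e he hnd P).toEquiv.nontrivial
  exact IsSimpleGroup.isSimpleGroup_of_surjective (pomegaEquiv e he hnd P).symm.toMonoidHom
    (pomegaEquiv e he hnd P).symm.surjective

theorem card_level_model (e : (ι → F) ≃ₗ[F] V) (he : ∀ v, Q (e v) = Qf v) (c : F) :
    Nat.card {v : ι → F // Qf v = c} = Nat.card {v : V // Q v = c} :=
  Nat.card_congr (e.toEquiv.subtypeEquiv fun v => by rw [LinearEquiv.coe_toEquiv, he])

/-- The order of `Ω` from the index, and of `POmega` from the centre. -/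
theorem card_pomega [FiniteDimensional F V] (e : (ι → F) ≃ₗ[F] V)
    (he : ∀ v, Q (e v) = Qf v) (hnd : NDPolar Q) (P : Frame Q) :
    Nat.card (Cfsg.POmega F Qf) * Nat.card (Subgroup.center (siegelGroup Q))
      * (siegelGroup Q).index = Nat.card (Cfsg.isometryGroup F Qf) := by
  rw [Nat.card_congr (pomegaEquiv e he hnd P).toEquiv,
    ← Subgroup.card_eq_card_quotient_mul_card_subgroup, Subgroup.card_mul_index,
    Nat.card_congr (isometryEquivModel e he).toEquiv]

theorem card_center_eq_one [FiniteDimensional F V] (hnd : NDPolar Q) (P : Frame Q)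
    (h : negOne Q ∈ siegelGroup Q → negOne Q = 1) :
    Nat.card (Subgroup.center (siegelGroup Q)) = 1 := by
  rw [Subgroup.card_eq_one, eq_bot_iff]
  intro g hg
  rw [Subgroup.mem_bot]
  rcases (mem_center_siegelGroup_iff hnd P g).1 hg with h1 | h1
  · exact Subtype.ext (orth_ext h1)
  · have h2 : (g : Orth Q) = negOne Q := orth_ext h1
    exact Subtype.ext (h2.trans (h (h2 ▸ g.2)))

theorem card_center_eq_two [FiniteDimensional F V] (hnd : NDPolar Q) (P : Frame Q)
    (h : negOne Q ∈ siegelGroup Q) (h2 : (2 : F) ≠ 0) :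
    Nat.card (Subgroup.center (siegelGroup Q)) = 2 := by
  set z : Subgroup.center (siegelGroup Q) :=
    ⟨⟨negOne Q, h⟩, (mem_center_siegelGroup_iff hnd P _).2 (Or.inr fun x => rfl)⟩
  rw [Nat.card_eq_two_iff]
  refine ⟨1, z, ?_, Set.eq_univ_of_forall fun g => ?_⟩
  · intro h1
    have h3 : -P.e₁ = P.e₁ :=
      (congrArg (fun k : Subgroup.center (siegelGroup Q) => k.1.1.1 P.e₁) h1).symm
    have h4 : (2 : F) • P.e₁ = 0 := by linear_combination (norm := module) -h3
    exact P.pair₁.left_ne_zero ((smul_eq_zero.1 h4).resolve_left h2)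
  · rcases (mem_center_siegelGroup_iff hnd P g.1).1 g.2 with h1 | h1
    · exact Or.inl (Subtype.ext (Subtype.ext (orth_ext h1)))
    · exact Or.inr (Subtype.ext (Subtype.ext (orth_ext h1)))

theorem negOne_eq_one (h2 : (2 : F) = 0) : negOne Q = 1 := orth_ext fun x => by
  have h : (2 : F) • x = 0 := by rw [h2, zero_smul]
  rw [negOne_apply, one_apply]
  linear_combination (norm := module) -h

end Bridge

/-! ### Frames of the models -/

/-- The frame of a model form with a non-singular vector in the kernel part. -/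
def hypFrameKernel {W : Type*} [AddCommGroup W] [Module F W] {R : QuadraticForm F W} {m : ℕ}
    (hm : 2 ≤ m) (w : W) (hw : R w ≠ 0) : Frame (hypForm m R) where
  e₁ := ((Pi.single ⟨0, by omega⟩ 1, 0), 0)
  f₁ := ((0, Pi.single ⟨0, by omega⟩ 1), 0)
  e₂ := ((Pi.single ⟨1, by omega⟩ 1, 0), 0)
  f₂ := ((0, Pi.single ⟨1, by omega⟩ 1), 0)
  a := (0, w)
  pair₁ := ⟨by simp [hypForm_apply], by simp [hypForm_apply],
    by simp [polar_hypForm, Pi.single_apply, polar_zero_right]⟩
  pair₂ := ⟨by simp [hypForm_apply], by simp [hypForm_apply],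
    by simp [polar_hypForm, Pi.single_apply, polar_zero_right]⟩
  e₁e₂ := by simp [polar_hypForm, polar_zero_right]
  e₁f₂ := by simp [polar_hypForm, Pi.single_apply, polar_zero_right]
  f₁e₂ := by simp [polar_hypForm, Pi.single_apply, polar_zero_right]
  f₁f₂ := by simp [polar_hypForm, polar_zero_right]
  ae₁ := by simp [polar_hypForm, polar_zero_right]
  af₁ := by simp [polar_hypForm, polar_zero_right]
  ae₂ := by simp [polar_hypForm, polar_zero_right]
  af₂ := by simp [polar_hypForm, polar_zero_right]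
  Qa := by simpa [hypForm_apply] using hw

/-- The frame of a model form with three hyperbolic pairs. -/
def hypFrameThree {W : Type*} [AddCommGroup W] [Module F W] (R : QuadraticForm F W) {m : ℕ}
    (hm : 3 ≤ m) : Frame (hypForm m R) where
  e₁ := ((Pi.single ⟨0, by omega⟩ 1, 0), 0)
  f₁ := ((0, Pi.single ⟨0, by omega⟩ 1), 0)
  e₂ := ((Pi.single ⟨1, by omega⟩ 1, 0), 0)
  f₂ := ((0, Pi.single ⟨1, by omega⟩ 1), 0)
  a := ((Pi.single ⟨2, by omega⟩ 1, Pi.single ⟨2, by omega⟩ 1), 0)
  pair₁ := ⟨by simp [hypForm_apply], by simp [hypForm_apply],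
    by simp [polar_hypForm, Pi.single_apply, polar_zero_right]⟩
  pair₂ := ⟨by simp [hypForm_apply], by simp [hypForm_apply],
    by simp [polar_hypForm, Pi.single_apply, polar_zero_right]⟩
  e₁e₂ := by simp [polar_hypForm, polar_zero_right]
  e₁f₂ := by simp [polar_hypForm, Pi.single_apply, polar_zero_right]
  f₁e₂ := by simp [polar_hypForm, Pi.single_apply, polar_zero_right]
  f₁f₂ := by simp [polar_hypForm, polar_zero_right]
  ae₁ := by simp [polar_hypForm, Pi.single_apply, polar_zero_right]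
  af₁ := by simp [polar_hypForm, Pi.single_apply, polar_zero_right]
  ae₂ := by simp [polar_hypForm, Pi.single_apply, polar_zero_right]
  af₂ := by simp [polar_hypForm, Pi.single_apply, polar_zero_right]
  Qa := by simp [hypForm_apply, Pi.single_apply]

/-! ### The three standard forms -/

/-- Coordinates for `quadFormPlus`. -/
def plusEquiv (m : ℕ) (F : Type*) [Field F] :
    (Fin m ⊕ Fin m → F) ≃ₗ[F] ((Fin m → F) × (Fin m → F)) × (Fin 0 → F) where
  toFun v := ((fun i => v (.inl i), fun i => v (.inr i)), 0)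
  invFun v := Sum.elim v.1.1 v.1.2
  left_inv v := by ext i; cases i <;> rfl
  right_inv v := Prod.ext rfl (Subsingleton.elim _ _)
  map_add' _ _ := Prod.ext rfl (Subsingleton.elim _ _)
  map_smul' _ _ := Prod.ext rfl (Subsingleton.elim _ _)

theorem plusEquiv_spec (m : ℕ) (v : Fin m ⊕ Fin m → F) :
    hypForm m (zeroKernel F) (plusEquiv m F v) = Cfsg.quadFormPlus m F v := by
  simp [plusEquiv, hypForm_apply, Cfsg.quadFormPlus]

/-- Coordinates for `quadFormOdd`. -/
def oddEquiv (m : ℕ) (F : Type*) [Field F] :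
    (Unit ⊕ (Fin m ⊕ Fin m) → F) ≃ₗ[F] ((Fin m → F) × (Fin m → F)) × (Unit → F) where
  toFun v := ((fun i => v (.inr (.inl i)), fun i => v (.inr (.inr i))), fun u => v (.inl u))
  invFun v := Sum.elim v.2 (Sum.elim v.1.1 v.1.2)
  left_inv v := by ext (i | i | i) <;> rfl
  right_inv _ := rfl
  map_add' _ _ := rfl
  map_smul' _ _ := rfl

theorem oddEquiv_spec (m : ℕ) (v : Unit ⊕ (Fin m ⊕ Fin m) → F) :
    hypForm m (lineForm F) (oddEquiv m F v) = Cfsg.quadFormOdd m F v := by
  rw [hypForm_apply, lineForm_apply]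
  show (∑ i, v (.inr (.inl i)) * v (.inr (.inr i))) + v (.inl ()) * v (.inl ()) = _
  rw [Cfsg.quadFormOdd]
  ring

/-- Coordinates for `quadFormMinus`. -/
def minusEquiv (m : ℕ) (F : Type*) [Field F] :
    ((Fin m ⊕ Fin m) ⊕ Fin 2 → F) ≃ₗ[F] ((Fin m → F) × (Fin m → F)) × (Fin 2 → F) where
  toFun v := ((fun i => v (.inl (.inl i)), fun i => v (.inl (.inr i))), fun j => v (.inr j))
  invFun v := Sum.elim (Sum.elim v.1.1 v.1.2) v.2
  left_inv v := by ext ((i | i) | i) <;> rfl
  right_inv _ := rfl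
  map_add' _ _ := rfl
  map_smul' _ _ := rfl

theorem minusEquiv_spec (m : ℕ) (a b : F) (v : (Fin m ⊕ Fin m) ⊕ Fin 2 → F) :
    hypForm m (binForm a b) (minusEquiv m F v) = Cfsg.quadFormMinus m F a b v := by
  rw [hypForm_apply, binForm_apply]
  rfl

/-! ### Counts and orders -/

variable [Fintype F]

theorem sub_one_arith {t : ℕ} (ht : 1 ≤ t) (s : ℕ) : (t - 1) * s + t - 1 = (t - 1) * (s + 1) := by
  obtain ⟨k, rfl⟩ : ∃ k, t = k + 1 := ⟨t - 1, by omega⟩
  simp only [Nat.add_sub_cancel]
  rw [mul_add, mul_one]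
  omega

theorem one_le_card_pow (k : ℕ) : 1 ≤ Nat.card F ^ k :=
  Nat.one_le_pow _ _ Nat.card_pos

theorem sq_sub_one_arith {t : ℕ} (ht : 1 ≤ t) : (t - 1) * (t + 1) = t * t - 1 := by
  obtain ⟨k, rfl⟩ : ∃ k, t = k + 1 := ⟨t - 1, by omega⟩
  simp only [Nat.add_sub_cancel]
  have : (k + 1) * (k + 1) = k * (k + 1 + 1) + 1 := by ring
  omega

theorem two_ne_zero_iff_odd : (2 : F) ≠ 0 ↔ Odd (Nat.card F) := by
  rw [Nat.card_eq_fintype_card]
  constructor
  · intro h
    rw [Nat.odd_iff]
    refine FiniteField.odd_card_of_char_ne_two fun h2 => h ?_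
    haveI := ringChar.of_eq h2
    exact CharTwo.two_eq_zero
  · intro h
    refine Ring.two_ne_zero fun h2 => ?_
    have := FiniteField.even_card_of_char_two h2
    rw [Nat.odd_iff] at h
    omega

theorem ringChar_ne_two_of_odd (h : Odd (Nat.card F)) : ringChar F ≠ 2 := by
  intro h2
  haveI := ringChar.of_eq h2
  exact two_ne_zero_iff_odd.2 h CharTwo.two_eq_zero

theorem card_zeros_lineForm : Nat.card {w : Unit → F // lineForm F w = 0} = 1 := by
  rw [Nat.card_eq_one_iff_unique]
  refine ⟨⟨fun x y => Subtype.ext (funext fun i => ?_)⟩, ⟨⟨0, QuadraticMap.map_zero _⟩⟩⟩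
  have hx := x.2
  have hy := y.2
  rw [lineForm_apply, mul_self_eq_zero] at hx hy
  exact hx.trans hy.symm

theorem card_zeros_zeroKernel : Nat.card {w : Fin 0 → F // zeroKernel F w = 0} = 1 := by
  rw [Nat.card_eq_one_iff_unique]
  exact ⟨inferInstance, ⟨⟨0, rfl⟩⟩⟩

theorem card_zeros_binForm {a b : F} (hab : IsAniso a b) :
    Nat.card {w : Fin 2 → F // binForm a b w = 0} = 1 := by
  rw [Nat.card_eq_one_iff_unique]
  exact ⟨⟨fun x y => Subtype.ext (by rw [binForm_eq_zero hab x.2, binForm_eq_zero hab y.2])⟩,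
    ⟨⟨0, QuadraticMap.map_zero _⟩⟩⟩

theorem card_orth_odd (h2 : (2 : F) ≠ 0) (m : ℕ) :
    Nat.card (Orth (hypForm m (lineForm F))) =
      2 * Nat.card F ^ (m ^ 2) * ∏ i ∈ Finset.range m, (Nat.card F ^ (2 * (i + 1)) - 1) := by
  induction m with
  | zero => rw [card_orth_hypForm_zero, card_orth_lineForm h2]; simp
  | succ m ih =>
    rw [card_orth_hypForm_succ (ndPolar_lineForm h2), ih, card_level_hypForm, card_zeros_lineForm,
      mul_one, Nat.card_fun, Nat.card_eq_fintype_card (α := Unit), Fintype.card_unit,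
      pow_one, Finset.prod_range_succ]
    set q := Nat.card F
    have h1 : q ^ (m + 1 - 1) * q = q ^ (m + 1) := by rw [Nat.add_sub_cancel, pow_succ]
    rw [mul_assoc (q ^ (m + 1) - 1), h1, sub_one_arith (one_le_card_pow _),
      sq_sub_one_arith (one_le_card_pow _), ← pow_add, show m + 1 + (m + 1) = 2 * (m + 1) by ring,
      show (m + 1) ^ 2 = m ^ 2 + (2 * m + 1) by ring, pow_add q (m ^ 2), pow_succ q (2 * m)]
    ring

theorem card_orth_plus (m : ℕ) :
    Nat.card (Orth (hypForm (m + 1) (zeroKernel F))) =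
      2 * Nat.card F ^ ((m + 1) * m) * (Nat.card F ^ (m + 1) - 1)
        * ∏ i ∈ Finset.range m, (Nat.card F ^ (2 * (i + 1)) - 1) := by
  induction m with
  | zero =>
    rw [card_orth_hypForm_succ ndPolar_zeroKernel, card_orth_hypForm_zero, card_orth_zeroKernel,
      card_level_hypForm, card_zeros_zeroKernel]
    simp only [Nat.card_fun, Nat.card_fin, pow_zero, zero_add, mul_zero, mul_one,
      Finset.range_zero, Finset.prod_empty, Nat.sub_self]
    have := one_le_card_pow (F := F) 1
    omega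
  | succ m ih =>
    rw [card_orth_hypForm_succ ndPolar_zeroKernel, ih, card_level_hypForm, card_zeros_zeroKernel,
      mul_one, Nat.card_fun, Nat.card_fin, pow_zero, mul_one, mul_one, Finset.prod_range_succ,
      Nat.add_sub_cancel, sub_one_arith (one_le_card_pow _)]
    set q := Nat.card F
    rw [show 2 * (m + 1) = (m + 1) + (m + 1) by ring, pow_add q (m + 1) (m + 1),
      ← sq_sub_one_arith (t := q ^ (m + 1)) (one_le_card_pow _),
      show (m + 1 + 1) * (m + 1) = (m + 1) * m + (m + 1) + (m + 1) by ring, pow_add, pow_add]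
    ring

theorem card_orth_minus {a b : F} (hab : IsAniso a b) (m : ℕ) :
    Nat.card (Orth (hypForm m (binForm a b))) =
      2 * Nat.card F ^ ((m + 1) * m) * (Nat.card F ^ (m + 1) + 1)
        * ∏ i ∈ Finset.range m, (Nat.card F ^ (2 * (i + 1)) - 1) := by
  induction m with
  | zero =>
    rw [card_orth_hypForm_zero, card_orth_binForm hab, Nat.card_eq_fintype_card]
    simp
  | succ m ih =>
    rw [card_orth_hypForm_succ (ndPolar_binForm hab), ih, card_level_hypForm,
      card_zeros_binForm hab, mul_one, Nat.card_fun, Nat.card_fin, Finset.prod_range_succ,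
      Nat.add_sub_cancel]
    set q := Nat.card F
    rw [mul_assoc (q ^ (m + 1) - 1) (q ^ m) (q ^ 2), ← pow_add, sub_one_arith (one_le_card_pow _),
      show 2 * (m + 1) = (m + 1) + (m + 1) by ring, pow_add q (m + 1) (m + 1),
      ← sq_sub_one_arith (t := q ^ (m + 1)) (one_le_card_pow _),
      show (m + 1 + 1) * (m + 1) = (m + 1) * m + (2 * m + 2) by ring, pow_add q ((m + 1) * m),
      pow_add q (2 * m) 2, show m + 1 + 1 = m + 2 by ring]
    ring

/-! ### POmega -/

theorem card_pomega_odd (hodd : Odd (Nat.card F)) {m : ℕ} (hm : 2 ≤ m) :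
    2 * Nat.card (Cfsg.POmega F (Cfsg.quadFormOdd m F)) =
      Nat.card F ^ (m ^ 2) * ∏ i ∈ Finset.range m, (Nat.card F ^ (2 * (i + 1)) - 1) := by
  have h2 := two_ne_zero_iff_odd.2 hodd
  have hr := ringChar_ne_two_of_odd hodd
  have hnd := ndPolar_hypForm (ndPolar_lineForm h2) m
  let P := hypFrameKernel (R := lineForm F) hm 1 (by simp [lineForm_apply])
  have hz : Nat.card (Subgroup.center (siegelGroup (hypForm m (lineForm F)))) = 1 := by
    refine card_center_eq_one hnd P fun h => ?_
    have h1 := ((siegel_index_odd hnd P hr one_ne_zero).2 _).1 h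
    have h3 := congrArg Units.val h1.1
    rw [detHom_negOne, Units.val_one] at h3
    have hfr : finrank F (((Fin m → F) × (Fin m → F)) × (Unit → F)) = 2 * m + 1 := by
      simp [Module.finrank_prod, two_mul]
    rw [hfr, Odd.neg_one_pow ⟨m, rfl⟩] at h3
    exact absurd (by linear_combination -h3 : (2 : F) = 0) h2
  have h := card_pomega (oddEquiv m F) (oddEquiv_spec m) hnd P
  rw [hz, (siegel_index_odd hnd P hr one_ne_zero).1,
    Nat.card_congr (isometryEquivModel (oddEquiv m F) (oddEquiv_spec m)).toEquiv,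
    card_orth_odd h2] at h
  rw [mul_assoc 2] at h
  omega

theorem card_pomega_plus {m : ℕ} (hm : 3 ≤ m) :
    Nat.gcd 4 (Nat.card F ^ m - 1) * Nat.card (Cfsg.POmega F (Cfsg.quadFormPlus m F)) =
      Nat.card F ^ (m * (m - 1)) * (Nat.card F ^ m - 1)
        * ∏ i ∈ Finset.range (m - 1), (Nat.card F ^ (2 * (i + 1)) - 1) := by
  obtain ⟨k, rfl⟩ : ∃ k, m = k + 1 := ⟨m - 1, by omega⟩
  have hnd := ndPolar_hypForm (ndPolar_zeroKernel (F := F)) (k + 1)
  let P := hypFrameThree (zeroKernel F) hm
  have h := card_pomega (plusEquiv (k + 1) F) (plusEquiv_spec (k + 1)) hnd P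
  rw [Nat.card_congr (isometryEquivModel (plusEquiv (k + 1) F) (plusEquiv_spec (k + 1))).toEquiv,
    card_orth_plus] at h
  simp only [Nat.add_sub_cancel]
  set q := Nat.card F
  by_cases h2 : (2 : F) = 0
  · have hr : ringChar F = 2 := by
      by_contra hr
      exact Ring.two_ne_zero hr h2
    have hev : ¬ Odd q := fun ho => two_ne_zero_iff_odd.2 ho h2
    rw [card_center_eq_one hnd P fun _ => negOne_eq_one h2, (siegel_index_even hnd P hr).1] at h
    have ho : Odd (q ^ (k + 1) - 1) := by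
      rw [Nat.not_odd_iff_even] at hev
      exact Nat.Even.sub_odd (one_le_card_pow _) (hev.pow_of_ne_zero (by omega)) odd_one
    have hg : Nat.gcd 4 (q ^ (k + 1) - 1) = 1 :=
      Nat.Coprime.pow_left 2 (Nat.coprime_two_left.2 ho)
    rw [hg, one_mul]
    rw [mul_assoc 2, mul_assoc 2] at h
    omega
  · have hodd := two_ne_zero_iff_odd.1 h2
    have hr := ringChar_ne_two_of_odd hodd
    have hfr : Even (finrank F (((Fin (k + 1) → F) × (Fin (k + 1) → F)) × (Fin 0 → F))) := by
      simp [Module.finrank_prod]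
    have hiff := negOne_mem_siegel_iff hnd P hr hfr one_ne_zero
    have hlev : Nat.card (Level (hypForm (k + 1) (zeroKernel F)) 1) = (q ^ (k + 1) - 1) * q ^ k := by
      rw [Level, card_level_hypForm, Nat.add_sub_cancel, Nat.card_fun, Nat.card_fin, pow_zero,
        mul_one, @Nat.card_of_isEmpty {w : Fin 0 → F // zeroKernel F w = 1}
          ⟨fun w => zero_ne_one w.2⟩, mul_zero, add_zero]
    have hcop : Nat.Coprime 4 (q ^ k) :=
      Nat.Coprime.pow_left 2 (Nat.coprime_two_left.2 hodd.pow)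
    rw [(siegel_index_odd hnd P hr one_ne_zero).1] at h
    have hev2 : 2 ∣ q ^ (k + 1) - 1 := by
      have : q ^ (k + 1) % 2 = 1 := Nat.odd_iff.1 hodd.pow
      omega
    by_cases h4 : 4 ∣ q ^ (k + 1) - 1
    · rw [card_center_eq_two hnd P (hiff.2 (by rw [hlev]; exact h4.mul_right _)) h2] at h
      rw [Nat.gcd_eq_left h4]
      rw [mul_assoc 2, mul_assoc 2] at h
      omega
    · rw [card_center_eq_one hnd P fun hm' => absurd (hcop.dvd_of_dvd_mul_right
        (hlev ▸ hiff.1 hm')) h4] at h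
      have hg : Nat.gcd 4 (q ^ (k + 1) - 1) = 2 := by
        have hdvd : Nat.gcd 4 (q ^ (k + 1) - 1) ∣ 4 := Nat.gcd_dvd_left _ _
        have hdvd2 : 2 ∣ Nat.gcd 4 (q ^ (k + 1) - 1) := Nat.dvd_gcd (by norm_num) hev2
        have hne : Nat.gcd 4 (q ^ (k + 1) - 1) ≠ 4 := fun h' => h4 (h' ▸ Nat.gcd_dvd_right _ _)
        have := Nat.le_of_dvd (by norm_num) hdvd
        interval_cases hgv : Nat.gcd 4 (q ^ (k + 1) - 1) <;> omega
      rw [hg]
      rw [mul_assoc 2, mul_assoc 2] at h
      omega

theorem card_pomega_minus {a b : F} (hab : IsAniso a b) {m : ℕ} (hm : 2 ≤ m) :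
    Nat.gcd 4 (Nat.card F ^ (m + 1) + 1) * Nat.card (Cfsg.POmega F (Cfsg.quadFormMinus m F a b)) =
      Nat.card F ^ ((m + 1) * m) * (Nat.card F ^ (m + 1) + 1)
        * ∏ i ∈ Finset.range m, (Nat.card F ^ (2 * (i + 1)) - 1) := by
  have hnd := ndPolar_hypForm (ndPolar_binForm hab) m
  let P := hypFrameKernel (R := binForm a b) hm ![1, 0] (by simp [binForm_apply])
  have h := card_pomega (minusEquiv m F) (minusEquiv_spec m a b) hnd P
  rw [Nat.card_congr (isometryEquivModel (minusEquiv m F) (minusEquiv_spec m a b)).toEquiv,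
    card_orth_minus hab] at h
  set q := Nat.card F
  by_cases h2 : (2 : F) = 0
  · have hr : ringChar F = 2 := by
      by_contra hr
      exact Ring.two_ne_zero hr h2
    have hev : ¬ Odd q := fun ho => two_ne_zero_iff_odd.2 ho h2
    rw [card_center_eq_one hnd P fun _ => negOne_eq_one h2, (siegel_index_even hnd P hr).1] at h
    have ho : Odd (q ^ (m + 1) + 1) := by
      rw [Nat.not_odd_iff_even] at hev
      exact (hev.pow_of_ne_zero (by omega)).add_one
    have hg : Nat.gcd 4 (q ^ (m + 1) + 1) = 1 :=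
      Nat.Coprime.pow_left 2 (Nat.coprime_two_left.2 ho)
    rw [hg, one_mul]
    rw [mul_assoc 2, mul_assoc 2] at h
    omega
  · have hodd := two_ne_zero_iff_odd.1 h2
    have hr := ringChar_ne_two_of_odd hodd
    have hfr : Even (finrank F (((Fin m → F) × (Fin m → F)) × (Fin 2 → F))) := by
      simp [Module.finrank_prod, parity_simps]
    have hiff := negOne_mem_siegel_iff hnd P hr hfr one_ne_zero
    have hlev : Nat.card (Level (hypForm m (binForm a b)) 1) = (q ^ (m + 1) + 1) * q ^ m := by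
      rw [Level, card_level_hypForm, card_level_binForm hab one_ne_zero, Nat.card_fun, Nat.card_fin,
        ← Nat.card_eq_fintype_card (α := F)]
      obtain ⟨j, rfl⟩ : ∃ j, m = j + 1 := ⟨m - 1, by omega⟩
      rw [Nat.add_sub_cancel]
      obtain ⟨t, ht⟩ : ∃ t, q ^ (j + 1) = t + 1 :=
        ⟨q ^ (j + 1) - 1, (Nat.sub_add_cancel (one_le_card_pow _)).symm⟩
      rw [show q ^ (j + 1 + 1) = q * q ^ (j + 1) by rw [pow_succ q (j + 1)]; ring, ht,
        Nat.add_sub_cancel, mul_assoc t (q ^ j) (q ^ 2),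
        show q ^ j * q ^ 2 = q * q ^ (j + 1) by rw [← pow_add, pow_succ' q (j + 1)], ht]
      ring
    have hcop : Nat.Coprime 4 (q ^ m) :=
      Nat.Coprime.pow_left 2 (Nat.coprime_two_left.2 hodd.pow)
    rw [(siegel_index_odd hnd P hr one_ne_zero).1] at h
    have hev2 : 2 ∣ q ^ (m + 1) + 1 := by
      have : q ^ (m + 1) % 2 = 1 := Nat.odd_iff.1 hodd.pow
      omega
    by_cases h4 : 4 ∣ q ^ (m + 1) + 1
    · rw [card_center_eq_two hnd P (hiff.2 (by rw [hlev]; exact h4.mul_right _)) h2] at h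
      rw [Nat.gcd_eq_left h4]
      rw [mul_assoc 2, mul_assoc 2] at h
      omega
    · rw [card_center_eq_one hnd P fun hm' => absurd (hcop.dvd_of_dvd_mul_right
        (hlev ▸ hiff.1 hm')) h4] at h
      have hg : Nat.gcd 4 (q ^ (m + 1) + 1) = 2 := by
        have hdvd : Nat.gcd 4 (q ^ (m + 1) + 1) ∣ 4 := Nat.gcd_dvd_left _ _
        have hdvd2 : 2 ∣ Nat.gcd 4 (q ^ (m + 1) + 1) := Nat.dvd_gcd (by norm_num) hev2
        have hne : Nat.gcd 4 (q ^ (m + 1) + 1) ≠ 4 := fun h' => h4 (h' ▸ Nat.gcd_dvd_right _ _)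
        have := Nat.le_of_dvd (by norm_num) hdvd
        interval_cases hgv : Nat.gcd 4 (q ^ (m + 1) + 1) <;> omega
      rw [hg]
      rw [mul_assoc 2, mul_assoc 2] at h
      omega

end CfsgLib.Classical.Quad
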