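import Mathlib.LinearAlgebra.QuadraticForm.Basic
import Mathlib.LinearAlgebra.Matrix.GeneralLinearGroup.Defs
import Mathlib.LinearAlgebra.FiniteDimensional.Lemmas
import Cfsg.Prelude.Def_Classical

/-!
The isometry group of a quadratic form on a vector space, reflections, Siegel transformations,
transitivity on singular vectors and hyperbolic pairs, generation, and the bridge to
`Cfsg.isometryGroup`.
-/

set_option autoImplicit false

namespace CfsgLib.Classical.Quad

open QuadraticMap Module

variable {F V V' : Type*} [Field F] [AddCommGroup V] [Module F V] [AddCommGroup V'] [Module F V']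
variable {Q : QuadraticForm F V}

/-- The polar form has no radical. -/
def NDPolar (Q : QuadraticForm F V) : Prop := ∀ x, (∀ y, polar Q x y = 0) → x = 0

/-- The isometry group of `Q`. -/
def Orth (Q : QuadraticForm F V) : Subgroup (V ≃ₗ[F] V) where
  carrier := {g | ∀ x, Q (g x) = Q x}
  mul_mem' {a b} ha hb x := by
    show Q (a (b x)) = Q x
    rw [ha, hb]
  one_mem' _ := rfl
  inv_mem' {a} ha x := by
    show Q (a.symm x) = Q x
    rw [← ha (a.symm x), LinearEquiv.apply_symm_apply]

theorem orth_ext {g h : Orth Q} (w : ∀ x, g.1 x = h.1 x) : g = h :=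
  Subtype.ext (LinearEquiv.ext w)

@[simp] theorem mul_apply (g h : Orth Q) (x : V) : (g * h).1 x = g.1 (h.1 x) := rfl

@[simp] theorem one_apply (x : V) : (1 : Orth Q).1 x = x := rfl

theorem inv_apply_self (g : Orth Q) (x : V) : (g⁻¹).1 (g.1 x) = x := g.1.symm_apply_apply x

theorem self_apply_inv (g : Orth Q) (x : V) : g.1 ((g⁻¹).1 x) = x := g.1.apply_symm_apply x

theorem orth_Q (g : Orth Q) (x : V) : Q (g.1 x) = Q x := g.2 x

theorem orth_polar (g : Orth Q) (x y : V) : polar Q (g.1 x) (g.1 y) = polar Q x y := by
  simp only [polar, ← map_add, orth_Q]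

theorem orth_ne_zero (g : Orth Q) {x : V} (hx : x ≠ 0) : g.1 x ≠ 0 :=
  (LinearEquiv.map_ne_zero_iff g.1).mpr hx

theorem Q_comb (x v u : V) (a b : F) :
    Q (x + a • v + b • u) = Q x + a * a * Q v + b * b * Q u + a * polar Q x v + b * polar Q x u
      + a * b * polar Q v u := by
  simp only [QuadraticMap.map_add Q, polar_add_left, QuadraticMap.map_smul, polar_smul_left,
    polar_smul_right, smul_eq_mul]
  ring

theorem Q_comb1 (x v : V) (a : F) : Q (x + a • v) = Q x + a * a * Q v + a * polar Q x v := by
  simp only [QuadraticMap.map_add Q, QuadraticMap.map_smul, polar_smul_right, smul_eq_mul]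

theorem polar_self' (x : V) : polar Q x x = 2 * Q x := by
  rw [polar_self, nsmul_eq_mul, Nat.cast_ofNat]

theorem polar_singular_self {x : V} (h : Q x = 0) : polar Q x x = 0 := by
  rw [polar_self', h, mul_zero]

/-! ### Reflections -/

/-- The reflection in `v`; the identity when `Q v = 0`. -/
noncomputable def reflFun (Q : QuadraticForm F V) (v x : V) : V := x + (-(polar Q x v / Q v)) • v

theorem reflFun_reflFun (v x : V) : reflFun Q v (reflFun Q v x) = x := by
  by_cases hv : Q v = 0
  · simp [reflFun, hv]
  · simp only [reflFun, polar_add_left, polar_smul_left, polar_self', smul_eq_mul, add_assoc,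
      ← add_smul]
    rw [add_eq_left]
    convert zero_smul F v using 2
    field_simp
    ring

theorem reflFun_Q (v x : V) : Q (reflFun Q v x) = Q x := by
  by_cases hv : Q v = 0
  · simp [reflFun, hv]
  · rw [reflFun, Q_comb1]
    field_simp
    ring

/-- The reflection in `v` as an isometry. -/
noncomputable def refl (Q : QuadraticForm F V) (v : V) : Orth Q :=
  ⟨{ toFun := reflFun Q v
     invFun := reflFun Q v
     left_inv := reflFun_reflFun v
     right_inv := reflFun_reflFun v
     map_add' := fun x y => by
       simp only [reflFun, polar_add_left, add_div, neg_add, add_smul]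
       abel
     map_smul' := fun c x => by
       simp only [reflFun, polar_smul_left, smul_eq_mul, RingHom.id_apply, smul_add, smul_smul]
       ring_nf },
   fun x => reflFun_Q v x⟩

theorem refl_apply (v x : V) : (refl Q v).1 x = x + (-(polar Q x v / Q v)) • v := rfl

theorem refl_mul_self (v : V) : refl Q v * refl Q v = 1 :=
  orth_ext fun x => reflFun_reflFun v x

theorem refl_inv (v : V) : (refl Q v)⁻¹ = refl Q v := inv_eq_of_mul_eq_one_left (refl_mul_self v)

theorem refl_fix {v x : V} (h : polar Q x v = 0) : (refl Q v).1 x = x := by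
  simp [refl_apply, h]

theorem refl_self {v : V} (h : Q v ≠ 0) : (refl Q v).1 v = -v := by
  rw [refl_apply, polar_self', mul_div_assoc, div_self h, mul_one]
  module

theorem refl_sub {u w : V} (h : Q u = Q w) (hv : Q (w - u) ≠ 0) : (refl Q (w - u)).1 u = w := by
  have h1 : Q (w - u) = - polar Q u (w - u) := by
    have h2 : w = u + (w - u) := by abel
    have h3 := QuadraticMap.map_add Q u (w - u)
    rw [← h2, ← h] at h3
    linear_combination -h3
  rw [refl_apply, h1, div_neg, neg_neg, div_self (fun h0 => hv (by rw [h1, h0, neg_zero])), one_smul]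
  abel

theorem refl_conj (g : Orth Q) (v : V) : g * refl Q v * g⁻¹ = refl Q (g.1 v) := by
  rw [mul_inv_eq_iff_eq_mul]
  refine orth_ext fun x => ?_
  simp only [mul_apply, refl_apply, map_add, map_smul, orth_polar, orth_Q]

theorem refl_smul {c : F} (hc : c ≠ 0) (v : V) : refl Q (c • v) = refl Q v := by
  refine orth_ext fun x => ?_
  simp only [refl_apply, polar_smul_right, QuadraticMap.map_smul, smul_eq_mul, smul_smul]
  congr 2
  by_cases hv : Q v = 0
  · simp [hv]
  · field_simp

theorem refl_comm {v w : V} (h : polar Q v w = 0) :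
    refl Q v * refl Q w = refl Q w * refl Q v := by
  have h1 : refl Q v * refl Q w * (refl Q v)⁻¹ = refl Q w := by
    rw [refl_conj, refl_fix (by rw [polar_comm]; exact h)]
  exact mul_inv_eq_iff_eq_mul.mp h1

/-! ### Siegel transformations -/

/-- The Siegel transformation attached to a singular `u` and a vector `w` orthogonal to it. -/
def siegelFun (Q : QuadraticForm F V) (u w x : V) : V :=
  x + polar Q x u • w + (-(polar Q x w) - Q w * polar Q x u) • u

theorem siegelFun_add {u w w' : V} (hu : Q u = 0) (hw : polar Q u w = 0) (hw' : polar Q u w' = 0)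
    (x : V) : siegelFun Q u w (siegelFun Q u w' x) = siegelFun Q u (w + w') x := by
  simp only [siegelFun, polar_add_left, polar_smul_left, polar_add_right, smul_eq_mul,
    QuadraticMap.map_add Q, hw, polar_singular_self hu, mul_zero, add_zero,
    (by rw [polar_comm]; exact hw' : polar Q w' u = 0),
    polar_comm Q w' w]
  module

theorem siegelFun_zero (u x : V) : siegelFun Q u 0 x = x := by
  simp [siegelFun]

theorem siegelFun_Q {u w : V} (hu : Q u = 0) (hw : polar Q u w = 0) (x : V) :
    Q (siegelFun Q u w x) = Q x := by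
  rw [siegelFun, Q_comb, hu, polar_comm Q w u, hw]
  ring

/-- Siegel transformation `T_{u,w}` as an isometry. -/
def siegel (Q : QuadraticForm F V) (u w : V) (hu : Q u = 0) (hw : polar Q u w = 0) : Orth Q :=
  ⟨{ toFun := siegelFun Q u w
     invFun := siegelFun Q u (-w)
     left_inv := fun x => by
       rw [siegelFun_add hu (by simp [hw]) hw, neg_add_cancel, siegelFun_zero]
     right_inv := fun x => by
       rw [siegelFun_add hu hw (by simp [hw]), add_neg_cancel, siegelFun_zero]
     map_add' := fun x y => by
       simp only [siegelFun, polar_add_left, add_smul, mul_add, neg_add]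
       module
     map_smul' := fun c x => by
       simp only [siegelFun, polar_smul_left, smul_eq_mul, RingHom.id_apply]
       module },
   fun x => siegelFun_Q hu hw x⟩

theorem siegel_apply {u w : V} (hu : Q u = 0) (hw : polar Q u w = 0) (x : V) :
    (siegel Q u w hu hw).1 x = x + polar Q x u • w + (-(polar Q x w) - Q w * polar Q x u) • u := rfl

theorem siegel_mul {u w w' : V} (hu : Q u = 0) (hw : polar Q u w = 0) (hw' : polar Q u w' = 0) :
    siegel Q u w hu hw * siegel Q u w' hu hw'
      = siegel Q u (w + w') hu (by rw [polar_add_right, hw, hw', add_zero]) :=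
  orth_ext fun x => siegelFun_add hu hw hw' x

theorem siegel_zero {u : V} (hu : Q u = 0) : siegel Q u 0 hu (by simp) = 1 :=
  orth_ext fun x => siegelFun_zero u x

theorem siegel_inv {u w : V} (hu : Q u = 0) (hw : polar Q u w = 0) :
    (siegel Q u w hu hw)⁻¹ = siegel Q u (-w) hu (by simp [hw]) := by
  refine inv_eq_of_mul_eq_one_right ?_
  exact orth_ext fun x => by
    show siegelFun Q u w (siegelFun Q u (-w) x) = x
    rw [siegelFun_add hu hw (by simp [hw]), add_neg_cancel, siegelFun_zero]

theorem siegel_conj (g : Orth Q) {u w : V} (hu : Q u = 0) (hw : polar Q u w = 0) :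
    g * siegel Q u w hu hw * g⁻¹ = siegel Q (g.1 u) (g.1 w) (by rw [orth_Q, hu])
      (by rw [orth_polar, hw]) := by
  rw [mul_inv_eq_iff_eq_mul]
  refine orth_ext fun x => ?_
  simp only [mul_apply, siegel_apply, map_add, map_smul, orth_polar, orth_Q]

theorem siegel_congr {u w u' w' : V} (hu : Q u = 0) (hw : polar Q u w = 0) (hu' : Q u' = 0)
    (hw' : polar Q u' w' = 0) (h1 : u = u') (h2 : w = w') :
    siegel Q u w hu hw = siegel Q u' w' hu' hw' := by
  subst h1 h2
  rfl

theorem siegel_smul_left {u w : V} (c : F) (hu : Q u = 0) (hw : polar Q u w = 0) :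
    siegel Q (c • u) w (by simp [QuadraticMap.map_smul, hu]) (by simp [hw])
      = siegel Q u (c • w) hu (by simp [hw]) := by
  refine orth_ext fun x => ?_
  simp only [siegel_apply, polar_smul_right, QuadraticMap.map_smul, smul_eq_mul]
  module

theorem siegel_add_smul {u w : V} (c : F) (hu : Q u = 0) (hw : polar Q u w = 0) :
    siegel Q u (w + c • u) hu (by simp [hw, polar_singular_self hu]) = siegel Q u w hu hw := by
  refine orth_ext fun x => ?_
  simp only [siegel_apply, polar_add_right, polar_smul_right, smul_eq_mul, Q_comb1, hu,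
    polar_comm Q w u, hw, mul_zero, add_zero]
  module

theorem siegel_fix {u w x : V} (hu : Q u = 0) (hw : polar Q u w = 0) (h1 : polar Q x u = 0)
    (h2 : polar Q x w = 0) : (siegel Q u w hu hw).1 x = x := by
  simp [siegel_apply, h1, h2]

/-- A Siegel transformation with a non-singular parameter is a product of two reflections. -/
theorem siegel_eq_refl_mul {u w : V} (hu : Q u = 0) (hw : polar Q u w = 0) (hw0 : Q w ≠ 0) :
    siegel Q u w hu hw = refl Q (w + (-(Q w)) • u) * refl Q w := by
  refine orth_ext fun x => ?_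
  have h1 : Q (w + (-(Q w)) • u) = Q w := by
    rw [Q_comb1, hu, polar_comm Q w u, hw]
    ring
  simp only [mul_apply, siegel_apply, refl_apply, polar_add_left, polar_add_right, polar_smul_left,
    polar_smul_right, polar_self', h1, polar_comm Q w u, hw, smul_eq_mul, mul_zero, add_zero]
  match_scalars <;> field_simp <;> ring

/-- The subgroup of all Siegel transformations attached to `u`. -/
def rootGroup (Q : QuadraticForm F V) (u : V) : Subgroup (Orth Q) where
  carrier := {g | g = 1 ∨ ∃ (w : V) (hu : Q u = 0) (hw : polar Q u w = 0), g = siegel Q u w hu hw}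
  mul_mem' := by
    rintro a b (rfl | ⟨w, hu, hw, rfl⟩) (rfl | ⟨w', hu', hw', rfl⟩)
    · simp
    · exact Or.inr ⟨w', hu', hw', one_mul _⟩
    · exact Or.inr ⟨w, hu, hw, mul_one _⟩
    · exact Or.inr ⟨w + w', hu, _, siegel_mul hu hw hw'⟩
  one_mem' := Or.inl rfl
  inv_mem' := by
    rintro a (rfl | ⟨w, hu, hw, rfl⟩)
    · simp
    · exact Or.inr ⟨-w, hu, _, siegel_inv hu hw⟩

theorem siegel_mem_rootGroup {u w : V} (hu : Q u = 0) (hw : polar Q u w = 0) :
    siegel Q u w hu hw ∈ rootGroup Q u := Or.inr ⟨w, hu, hw, rfl⟩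

/-- The set of Siegel transformations. -/
def siegelSet (Q : QuadraticForm F V) : Set (Orth Q) :=
  {g | ∃ (u w : V) (hu : Q u = 0) (hw : polar Q u w = 0), g = siegel Q u w hu hw}

/-- The group generated by the Siegel transformations. -/
def siegelGroup (Q : QuadraticForm F V) : Subgroup (Orth Q) := Subgroup.closure (siegelSet Q)

theorem siegel_mem {u w : V} (hu : Q u = 0) (hw : polar Q u w = 0) :
    siegel Q u w hu hw ∈ siegelGroup Q := Subgroup.subset_closure ⟨u, w, hu, hw, rfl⟩

instance siegelGroup_normal : (siegelGroup Q).Normal where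
  conj_mem n hn g := by
    induction hn using Subgroup.closure_induction with
    | mem x hx =>
      obtain ⟨u, w, hu, hw, rfl⟩ := hx
      rw [siegel_conj]
      exact siegel_mem _ _
    | one => simp
    | mul x y _ _ hx hy =>
      have h : g * (x * y) * g⁻¹ = g * x * g⁻¹ * (g * y * g⁻¹) := by group
      rw [h]
      exact mul_mem hx hy
    | inv x _ hx =>
      have h : g * x⁻¹ * g⁻¹ = (g * x * g⁻¹)⁻¹ := by group
      rw [h]
      exact inv_mem hx

/-! ### Linear algebra of the polar form -/

theorem polarBilin_bijective [FiniteDimensional F V] (hnd : NDPolar Q) :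
    Function.Bijective (polarBilin Q) := by
  have hinj : Function.Injective (polarBilin Q) := by
    rw [← LinearMap.ker_eq_bot, eq_bot_iff]
    intro x hx
    exact hnd x fun y => LinearMap.congr_fun hx y
  exact ⟨hinj, (LinearMap.injective_iff_surjective_of_finrank_eq_finrank
    (Subspace.dual_finrank_eq (K := F) (V := V)).symm).mp hinj⟩

theorem exists_polar [FiniteDimensional F V] (hnd : NDPolar Q) (φ : V →ₗ[F] F) :
    ∃ x, ∀ y, polar Q x y = φ y := by
  obtain ⟨x, hx⟩ := (polarBilin_bijective hnd).2 φ
  exact ⟨x, fun y => LinearMap.congr_fun hx y⟩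

theorem exists_polar_one [FiniteDimensional F V] (hnd : NDPolar Q) {u : V} (hu : u ≠ 0) :
    ∃ x, polar Q u x = 1 := by
  obtain ⟨φ, hφ⟩ := Module.Projective.exists_dual_ne_zero F hu
  obtain ⟨x, hx⟩ := exists_polar hnd ((φ u)⁻¹ • φ)
  exact ⟨x, by rw [polar_comm, hx]; simp [hφ]⟩

theorem exists_polar_pair [FiniteDimensional F V] (hnd : NDPolar Q) {u w : V}
    (hind : LinearIndependent F ![u, w]) (a b : F) : ∃ x, polar Q u x = a ∧ polar Q w x = b := by
  obtain ⟨g, hg⟩ := LinearMap.exists_extend
    (Finsupp.linearCombination F (fun i => ![a, b] i) ∘ₗ hind.repr)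
  obtain ⟨x, hx⟩ := exists_polar hnd g
  refine ⟨x, ?_, ?_⟩
  · rw [polar_comm, hx]
    have h := LinearMap.congr_fun hg
      ⟨![u, w] 0, Submodule.subset_span (Set.mem_range_self 0)⟩
    simp only [LinearMap.coe_comp, Submodule.coe_subtype, Function.comp_apply] at h
    rw [hind.repr_eq_single 0 _ rfl] at h
    simpa using h
  · rw [polar_comm, hx]
    have h := LinearMap.congr_fun hg
      ⟨![u, w] 1, Submodule.subset_span (Set.mem_range_self 1)⟩
    simp only [LinearMap.coe_comp, Submodule.coe_subtype, Function.comp_apply] at h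
    rw [hind.repr_eq_single 1 _ rfl] at h
    simpa using h

/-! ### Transitivity -/

theorem not_smul_eq_of_indep {u w : V} (hw : w ≠ 0) (h : ∀ c : F, c • w ≠ u) :
    LinearIndependent F ![u, w] := by
  rw [linearIndependent_fin2]
  exact ⟨hw, h⟩

/-- A singular vector with prescribed non-zero products with two non-zero singular vectors. -/
theorem exists_singular_polar [FiniteDimensional F V] (hnd : NDPolar Q) {u w : V} (hu0 : u ≠ 0)
    (hw0 : w ≠ 0) (hu : Q u = 0) (huw : polar Q u w = 0) :
    ∃ z, Q z = 0 ∧ polar Q u z ≠ 0 ∧ polar Q w z ≠ 0 := by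
  obtain ⟨x, hx1, hx2⟩ : ∃ x, polar Q u x = 1 ∧ polar Q w x ≠ 0 := by
    by_cases h : ∃ c : F, c • w = u
    · obtain ⟨c, hc⟩ := h
      obtain ⟨x, hx⟩ := exists_polar_one hnd hu0
      refine ⟨x, hx, fun h0 => ?_⟩
      rw [← hc, polar_smul_left, h0, smul_zero] at hx
      exact one_ne_zero hx.symm
    · push Not at h
      obtain ⟨x, h1, h2⟩ := exists_polar_pair hnd (not_smul_eq_of_indep hw0 h) 1 1
      exact ⟨x, h1, by rw [h2]; exact one_ne_zero⟩
  refine ⟨x + (-(Q x)) • u, ?_, ?_, ?_⟩
  · rw [Q_comb1, hu, polar_comm Q x u, hx1]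
    ring
  · rw [polar_add_right, polar_smul_right, polar_singular_self hu, hx1]
    simp
  · rw [polar_add_right, polar_smul_right, polar_comm Q w u, huw, smul_zero, add_zero]
    exact hx2

/-- Reflections map any non-zero singular vector to any other. -/
theorem exists_refl_singular [FiniteDimensional F V] (hnd : NDPolar Q) {u w : V} (hu0 : u ≠ 0)
    (hw0 : w ≠ 0) (hu : Q u = 0) (hw : Q w = 0) : ∃ g : Orth Q, g.1 u = w := by
  have key : ∀ a b : V, Q a = 0 → Q b = 0 → polar Q a b ≠ 0 → ∃ g : Orth Q, g.1 a = b := by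
    intro a b ha hb hab
    refine ⟨refl Q (b - a), refl_sub (by rw [ha, hb]) ?_⟩
    rw [sub_eq_add_neg, QuadraticMap.map_add Q, QuadraticMap.map_neg, ha, hb, polar_neg_right,
      polar_comm Q b a]
    simpa using hab
  by_cases h : polar Q u w = 0
  · obtain ⟨z, hz, h1, h2⟩ := exists_singular_polar hnd hu0 hw0 hu h
    obtain ⟨g1, hg1⟩ := key u z hu hz h1
    obtain ⟨g2, hg2⟩ := key z w hz hw (by rwa [polar_comm])
    exact ⟨g2 * g1, by simp [hg1, hg2]⟩
  · exact key u w hu hw h

/-- The Siegel transformations at `u` are transitive on the singular vectors with product 1. -/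
theorem exists_siegel_partner {u z z' : V} (hu : Q u = 0) (hz : Q z = 0) (hz' : Q z' = 0)
    (h1 : polar Q u z = 1) (h2 : polar Q u z' = 1) :
    ∃ (w : V) (hw : polar Q u w = 0), (siegel Q u w hu hw).1 z = z' := by
  have hw : polar Q u (z' - z) = 0 := by rw [polar_sub_right, h1, h2, sub_self]
  refine ⟨z' - z, hw, ?_⟩
  have h3 : Q (z' - z) = - polar Q z z' := by
    rw [sub_eq_add_neg, QuadraticMap.map_add Q, QuadraticMap.map_neg, hz, hz', polar_neg_right,
      polar_comm Q z' z]
    ring
  rw [siegel_apply, polar_comm Q z u, h1, h3, polar_sub_right, polar_singular_self hz]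
  module

/-- A hyperbolic pair. -/
def IsHPair (Q : QuadraticForm F V) (u z : V) : Prop := Q u = 0 ∧ Q z = 0 ∧ polar Q u z = 1

theorem IsHPair.left_ne_zero {u z : V} (h : IsHPair Q u z) : u ≠ 0 := by
  rintro rfl
  simpa using h.2.2

theorem IsHPair.map {u z : V} (h : IsHPair Q u z) (g : Orth Q) : IsHPair Q (g.1 u) (g.1 z) :=
  ⟨by rw [orth_Q, h.1], by rw [orth_Q, h.2.1], by rw [orth_polar, h.2.2]⟩

theorem exists_map_hpair [FiniteDimensional F V] (hnd : NDPolar Q) {u z u' z' : V}
    (h : IsHPair Q u z) (h' : IsHPair Q u' z') : ∃ g : Orth Q, g.1 u = u' ∧ g.1 z = z' := by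
  obtain ⟨g, hg⟩ := exists_refl_singular hnd h.left_ne_zero h'.left_ne_zero h.1 h'.1
  obtain ⟨h1, h2, h3⟩ := h.map g
  obtain ⟨w, hw, hgz⟩ := exists_siegel_partner h1 h2 h'.2.1 h3 (by rw [hg]; exact h'.2.2)
  refine ⟨siegel Q _ w h1 hw * g, ?_, by simp [hgz]⟩
  rw [mul_apply, siegel_fix h1 hw (polar_singular_self h1) hw, hg]

/-- `O(Q)` is generated by reflections and Siegel transformations. -/
theorem closure_refl_siegel [FiniteDimensional F V] (hnd : NDPolar Q) :
    Subgroup.closure (Set.range (refl Q) ∪ siegelSet Q) = ⊤ := by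
  set G := Subgroup.closure (Set.range (refl Q) ∪ siegelSet Q) with hG
  suffices h : ∀ (n : ℕ) (g : Orth Q),
      finrank F V ≤ finrank F (LinearMap.eqLocus (g.1 : V →ₗ[F] V) LinearMap.id) + n → g ∈ G by
    rw [eq_top_iff]
    intro g _
    exact h (finrank F V) g (Nat.le_add_left _ _)
  intro n
  induction n with
  | zero =>
    intro g hg
    have htop : LinearMap.eqLocus (g.1 : V →ₗ[F] V) LinearMap.id = ⊤ :=
      Submodule.eq_top_of_finrank_eq (le_antisymm (Submodule.finrank_le _) (by simpa using hg))
    have : g = 1 := orth_ext fun x => by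
      have hx : x ∈ LinearMap.eqLocus (g.1 : V →ₗ[F] V) LinearMap.id := by rw [htop]; trivial
      exact hx
    rw [this]
    exact one_mem G
  | succ n ih =>
    intro g hg
    by_cases h1 : ∀ x, g.1 x = x
    · have : g = 1 := orth_ext h1
      rw [this]
      exact one_mem G
    push Not at h1
    -- it suffices to enlarge the fixed space by left multiplication
    suffices step : ∃ t ∈ G, ∃ y, g.1 y ≠ y ∧ (t * g).1 y = y ∧
        ∀ x, g.1 x = x → (t * g).1 x = x by
      obtain ⟨t, ht, y, hy, hy', hfix⟩ := step
      have hlt : LinearMap.eqLocus (g.1 : V →ₗ[F] V) LinearMap.id <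
          LinearMap.eqLocus ((t * g).1 : V →ₗ[F] V) LinearMap.id :=
        lt_of_le_of_ne (fun x hx => hfix x hx) fun heq =>
          hy (show y ∈ LinearMap.eqLocus (g.1 : V →ₗ[F] V) LinearMap.id by rw [heq]; exact hy')
      have := Submodule.finrank_lt_finrank_of_lt hlt
      have hmem := ih (t * g) (by omega)
      have : g = t⁻¹ * (t * g) := by group
      rw [this]
      exact mul_mem (inv_mem ht) hmem
    by_cases h2 : ∃ y, Q (g.1 y - y) ≠ 0
    · -- a reflection
      obtain ⟨y, hy⟩ := h2
      refine ⟨refl Q (g.1 y - y), Subgroup.subset_closure (Or.inl ⟨_, rfl⟩), y,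
        fun h => hy (by simp [h]), ?_, fun x hx => ?_⟩
      · rw [mul_apply]
        calc (refl Q (g.1 y - y)).1 (g.1 y)
            = (refl Q (g.1 y - y)).1 ((refl Q (g.1 y - y)).1 y) := by
              rw [refl_sub (orth_Q g y).symm hy]
          _ = y := reflFun_reflFun _ y
      · rw [mul_apply, hx, refl_fix]
        rw [polar_sub_right]
        nth_rewrite 1 [← hx]
        rw [orth_polar, sub_self]
    · push Not at h2
      obtain ⟨y, hy⟩ := h1
      -- every displacement is singular
      have horth : ∀ a b, polar Q (g.1 a - a) (g.1 b - b) = 0 := by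
        intro a b
        have h := h2 (a + b)
        rw [map_add, add_sub_add_comm, QuadraticMap.map_add Q, h2, h2] at h
        simpa using h
      have hfix : ∀ x, g.1 x = x → ∀ b, polar Q x (g.1 b - b) = 0 := by
        intro x hx b
        rw [polar_sub_right]
        nth_rewrite 1 [← hx]
        rw [orth_polar, sub_self]
      -- `y` is not orthogonal to all displacements
      obtain ⟨b, hb⟩ : ∃ b, polar Q y (g.1 b - b) ≠ 0 := by
        by_contra hcon
        push Not at hcon
        apply hy
        rw [← sub_eq_zero]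
        refine hnd _ fun b => ?_
        have hh := horth y b
        rw [polar_sub_right, polar_sub_left (Q := Q) (g.1 y) y (g.1 b), orth_polar] at hh
        have hc := hcon b
        rw [polar_sub_right] at hc
        rw [polar_sub_left] at hh ⊢
        linear_combination -hh - hc
      set w := g.1 y - y with hwdef
      set u := (polar Q y (g.1 b - b))⁻¹ • (g.1 b - b) with hudef
      have hu : Q u = 0 := by simp [hudef, QuadraticMap.map_smul, h2]
      have hyu : polar Q y u = 1 := by rw [hudef, polar_smul_right, smul_eq_mul, inv_mul_cancel₀ hb]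
      have huw : polar Q u (-w) = 0 := by
        rw [hudef, hwdef, polar_smul_left, polar_neg_right, horth, neg_zero, smul_zero]
      have hyw : polar Q y w = 0 := by
        have h3 := orth_Q g y
        have h4 : g.1 y = y + w := by rw [hwdef]; abel
        rw [h4, QuadraticMap.map_add Q, h2] at h3
        simpa using h3
      refine ⟨siegel Q u (-w) hu huw, Subgroup.subset_closure (Or.inr ⟨_, _, hu, huw, rfl⟩), y, hy,
        ?_, fun x hx => ?_⟩
      · have h4 : g.1 y = y + w := by rw [hwdef]; abel
        have hwu : polar Q w u = 0 := by rw [polar_comm]; simpa using huw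
        have hQw : Q w = 0 := h2 y
        simp only [mul_apply, h4, siegel_apply, polar_add_left, hyu, hwu, polar_neg_right, hyw,
          polar_singular_self hQw, QuadraticMap.map_neg, hQw]
        module
      · rw [mul_apply, hx]
        refine siegel_fix hu huw ?_ ?_
        · rw [hudef, polar_smul_right, hfix x hx, smul_zero]
        · rw [polar_neg_right, hwdef, hfix x hx, neg_zero]

/-! ### Transport and bridge to `Cfsg.isometryGroup` -/

/-- Transport of the isometry group along a linear isometry. -/
def orthCongr {Q' : QuadraticForm F V'} (e : V ≃ₗ[F] V') (h : ∀ x, Q' (e x) = Q x) :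
    Orth Q ≃* Orth Q' where
  toFun g := ⟨e.symm.trans (g.1.trans e), fun x => by
    show Q' (e (g.1 (e.symm x))) = Q' x
    rw [h, orth_Q, ← h, LinearEquiv.apply_symm_apply]⟩
  invFun g := ⟨e.trans (g.1.trans e.symm), fun x => by
    show Q (e.symm (g.1 (e x))) = Q x
    rw [← h, LinearEquiv.apply_symm_apply, orth_Q, h]⟩
  left_inv g := orth_ext fun x => by simp
  right_inv g := orth_ext fun x => by simp
  map_mul' g g' := orth_ext fun x => by simp

theorem orthCongr_apply {Q' : QuadraticForm F V'} (e : V ≃ₗ[F] V') (h : ∀ x, Q' (e x) = Q x)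
    (g : Orth Q) (x : V') : (orthCongr e h g).1 x = e (g.1 (e.symm x)) := rfl

/-- `Cfsg.isometryGroup` of a function which is a quadratic form. -/
noncomputable def isometryGroupEquiv {ι : Type} [Fintype ι] [DecidableEq ι] {Qf : (ι → F) → F}
    (Q : QuadraticForm F (ι → F)) (hQ : ∀ v, Q v = Qf v) :
    Cfsg.isometryGroup F Qf ≃* Orth Q where
  toFun g := ⟨(Matrix.GeneralLinearGroup.toLin g.1).toLinearEquiv, fun x => by
    simpa [hQ] using g.2 x x⟩
  invFun g := ⟨Matrix.GeneralLinearGroup.toLin.symm (LinearMap.GeneralLinearGroup.ofLinearEquiv g.1),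
    fun u _ => by
      simp only [← hQ]
      have h : ∀ A : Matrix.GeneralLinearGroup ι F, (A : Matrix ι ι F).mulVec u =
          (Matrix.GeneralLinearGroup.toLin A : (ι → F) →ₗ[F] ι → F) u := fun A => by simp
      show Q (Matrix.mulVec _ u) = Q u
      rw [Units.coeHom_apply, h, MulEquiv.apply_symm_apply]
      exact orth_Q g u⟩
  left_inv g := by
    apply Subtype.ext
    apply Matrix.GeneralLinearGroup.toLin.injective
    simp
    rfl
  right_inv g := orth_ext fun x => by simp
  map_mul' g g' := orth_ext fun x => by simp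

theorem isometryGroupEquiv_apply {ι : Type} [Fintype ι] [DecidableEq ι] {Qf : (ι → F) → F}
    (Q : QuadraticForm F (ι → F)) (hQ : ∀ v, Q v = Qf v) (g : Cfsg.isometryGroup F Qf) (x : ι → F) :
    (isometryGroupEquiv Q hQ g).1 x = ((g.1 : Matrix ι ι F)).mulVec x := by
  simp [isometryGroupEquiv]

end CfsgLib.Classical.Quad
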