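import Cfsg.Agent.Lib.Classical.Quad.Omega
import Mathlib.FieldTheory.Finite.Basic
import Mathlib.LinearAlgebra.Determinant
import Mathlib.GroupTheory.Index

/-!
The two characters of `O(Q)`: determinant together with the sign of the permutation of a level set
(odd characteristic), and the parity of the fixed space on products of reflections.  They give the
index of the Siegel group in `O(Q)`.
-/

set_option autoImplicit false

namespace CfsgLib.Classical.Quad

open QuadraticMap Module

variable {F V : Type*} [Field F] [AddCommGroup V] [Module F V]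
variable {Q : QuadraticForm F V}

/-- The determinant on `O(Q)`. -/
noncomputable def detHom (Q : QuadraticForm F V) : Orth Q →* Fˣ :=
  LinearEquiv.det.comp (Orth Q).subtype

theorem detHom_refl [FiniteDimensional F V] {v : V} (hv : Q v ≠ 0) : detHom Q (refl Q v) = -1 := by
  apply Units.ext
  have h : ((refl Q v).1 : V →ₗ[F] V) =
      LinearMap.transvection ((-(Q v)⁻¹) • (polarBilin Q).flip v) v := by
    ext x
    simp [refl_apply, LinearMap.transvection.apply, div_eq_inv_mul]
  show (LinearEquiv.det (refl Q v).1 : F) = _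
  rw [LinearEquiv.coe_det, h, LinearMap.transvection.det]
  simp [polar_self']
  field_simp
  norm_num

/-- The negation as an isometry. -/
def negOne (Q : QuadraticForm F V) : Orth Q :=
  ⟨LinearEquiv.neg F, fun x => by simp [QuadraticMap.map_neg]⟩

theorem negOne_apply (x : V) : (negOne Q).1 x = -x := rfl

theorem detHom_negOne [FiniteDimensional F V] :
    (detHom Q (negOne Q) : F) = (-1) ^ finrank F V := by
  show (LinearEquiv.det (negOne Q).1 : F) = _
  rw [LinearEquiv.coe_det]
  have h : ((negOne Q).1 : V →ₗ[F] V) = (-1 : F) • LinearMap.id := by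
    ext x
    simp [negOne]
  rw [h, LinearMap.det_smul, LinearMap.det_id, mul_one]

/-- The vectors with value `c`. -/
abbrev Level (Q : QuadraticForm F V) (c : F) : Type _ := {x : V // Q x = c}

/-- The permutation of a level set given by an isometry. -/
def levelPerm (Q : QuadraticForm F V) (c : F) : Orth Q →* Equiv.Perm (Level Q c) where
  toFun g :=
    { toFun := fun u => ⟨g.1 u.1, by rw [orth_Q, u.2]⟩
      invFun := fun u => ⟨(g⁻¹).1 u.1, by rw [orth_Q, u.2]⟩
      left_inv := fun u => Subtype.ext (inv_apply_self g u.1)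
      right_inv := fun u => Subtype.ext (self_apply_inv g u.1) }
  map_one' := rfl
  map_mul' _ _ := rfl

theorem even_natCard_of_involution {α : Type*} [Finite α] (f : α → α) (hf : ∀ x, f (f x) = x)
    (hne : ∀ x, f x ≠ x) : Even (Nat.card α) := by
  classical
  cases nonempty_fintype α
  set σ : Equiv.Perm α := ⟨f, f, hf, hf⟩ with hσdef
  have hσ : σ ^ 2 = 1 := by
    ext x
    simp [pow_two, hσdef, hf]
  have h := Equiv.Perm.two_dvd_card_support hσ
  have hs : σ.support = Finset.univ := by
    ext x
    simp [Equiv.Perm.mem_support, hσdef, hne]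
  rw [hs, Finset.card_univ] at h
  rw [Nat.card_eq_fintype_card]
  exact even_iff_two_dvd.2 h

section Finite

variable [Finite V]

/-- The sign of the permutation of a level set. -/
noncomputable def levelSign (Q : QuadraticForm F V) (c : F) : Orth Q →* ℤˣ :=
  letI := Classical.decEq (Level Q c)
  letI := Fintype.ofFinite (Level Q c)
  Equiv.Perm.sign.comp (levelPerm Q c)

theorem levelSign_of_involution (c : F) (g : Orth Q) (hg : g * g = 1) :
    levelSign Q c g = (-1) ^ ((Nat.card (Level Q c) -
      Nat.card {x : V // Q x = c ∧ g.1 x = x}) / 2) := by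
  letI := Classical.decEq (Level Q c)
  letI := Fintype.ofFinite (Level Q c)
  show Equiv.Perm.sign (levelPerm Q c g) = _
  rw [Equiv.Perm.sign_of_pow_two_eq_one (by rw [← map_pow, pow_two, hg, map_one]),
    ← Nat.card_eq_fintype_card, ← Nat.card_eq_fintype_card]
  congr 3
  exact Nat.card_congr
    { toFun := fun x => ⟨x.1.1, x.1.2, congrArg Subtype.val x.2⟩
      invFun := fun x => ⟨⟨x.1, x.2.1⟩, Subtype.ext x.2.2⟩
      left_inv := fun _ => rfl
      right_inv := fun _ => rfl }

theorem levelSign_refl (c : F) {v : V} (hv : Q v ≠ 0) :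
    levelSign Q c (refl Q v) = (-1) ^ ((Nat.card (Level Q c) -
      Nat.card {x : V // Q x = c ∧ polar Q x v = 0}) / 2) := by
  rw [levelSign_of_involution c _ (refl_mul_self v)]
  congr 3
  refine Nat.card_congr (Equiv.subtypeEquivRight fun x => and_congr_right fun _ => ⟨fun h => ?_,
    fun h => refl_fix h⟩)
  rw [refl_apply, add_eq_left, neg_smul, neg_eq_zero, smul_eq_zero, div_eq_zero_iff] at h
  rcases h with (h | h) | h
  · exact h
  · exact absurd h hv
  · exact absurd (by rw [h]; simp) hv

end Finite

section Odd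

variable [Fintype F] [FiniteDimensional F V] (hnd : NDPolar Q) (P : Frame Q)

omit [FiniteDimensional F V] in
theorem two_ne_zero_of_ringChar (h2 : ringChar F ≠ 2) : (2 : F) ≠ 0 :=
  Ring.two_ne_zero h2

theorem card_sqrt_sum (h2 : ringChar F ≠ 2) {α : F} (hα : ¬ IsSquare α) (d : F) :
    Nat.card {t : F // 1 * (t * t) = d} + Nat.card {t : F // α * (t * t) = d} = 2 := by
  classical
  have hα0 : α ≠ 0 := fun h => hα (h ▸ IsSquare.zero)
  have key : ∀ a : F, a ≠ 0 →
      (Nat.card {t : F // a * (t * t) = d} : ℤ) = quadraticChar F (a⁻¹ * d) + 1 := by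
    intro a ha
    rw [← quadraticChar_card_sqrts h2, Nat.card_eq_fintype_card]
    congr 1
    rw [Set.toFinset_card]
    refine Fintype.card_congr (Equiv.subtypeEquivRight fun t => ?_)
    constructor
    · intro h
      show t ^ 2 = a⁻¹ * d
      rw [← h]
      field_simp
    · intro h
      have h' : t ^ 2 = a⁻¹ * d := h
      rw [← pow_two, h', ← mul_assoc, mul_inv_cancel₀ ha, one_mul]
  zify
  rw [key 1 one_ne_zero, key α hα0, inv_one, one_mul, map_mul]
  have h3 : quadraticChar F α⁻¹ = -1 := by
    rw [quadraticChar_neg_one_iff_not_isSquare]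
    exact fun h => hα (by simpa using h.inv)
  rw [h3]
  ring

variable [Finite V]

theorem levelSign_frame_mul (h2 : ringChar F ≠ 2) {α c : F} (hc : c ≠ 0) (hα : ¬ IsSquare α) :
    levelSign Q c (refl Q (P.f₁ + (1 : F) • P.e₁)) * levelSign Q c (refl Q (P.f₁ + α • P.e₁))
      = -1 := by
  classical
  set W : Submodule F V :=
    LinearMap.ker (((polarBilin Q).flip P.e₁).prod ((polarBilin Q).flip P.f₁)) with hW
  have hWmem : ∀ x, x ∈ W ↔ polar Q x P.e₁ = 0 ∧ polar Q x P.f₁ = 0 := by
    intro x
    simp [hW]
  letI := Fintype.ofFinite W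
  have hef : polar Q P.f₁ P.e₁ = 1 := by rw [polar_comm]; exact P.pair₁.2.2
  have count : ∀ a : F, Nat.card {x : V // Q x = c ∧ polar Q x (P.f₁ + a • P.e₁) = 0}
      = ∑ w : W, Nat.card {t : F // a * (t * t) = Q w - c} := by
    intro a
    rw [← Nat.card_sigma]
    refine Nat.card_congr
      { toFun := fun x => ⟨⟨x.1 + (-(polar Q x.1 P.f₁)) • P.e₁ + (-(polar Q x.1 P.e₁)) • P.f₁, ?_⟩,
          ⟨polar Q x.1 P.e₁, ?_⟩⟩
        invFun := fun y => ⟨y.1.1 + (-(a * y.2.1)) • P.e₁ + y.2.1 • P.f₁, ?_, ?_⟩
        left_inv := ?_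
        right_inv := ?_ }
    · rw [hWmem]
      simp [P.pair₁.2.2, hef, polar_singular_self P.pair₁.1, polar_singular_self P.pair₁.2.1]
    · have h := x.2.2
      rw [polar_add_right, polar_smul_right, smul_eq_mul, add_eq_zero_iff_eq_neg] at h
      rw [Q_comb, x.2.1, P.pair₁.1, P.pair₁.2.1, P.pair₁.2.2, h]
      ring
    · obtain ⟨w1, w2⟩ := (hWmem _).1 y.1.2
      rw [Q_comb, P.pair₁.1, P.pair₁.2.1, P.pair₁.2.2, w1, w2]
      linear_combination -y.2.2
    · obtain ⟨w1, w2⟩ := (hWmem _).1 y.1.2
      simp only [polar_add_left, polar_add_right, polar_smul_left, polar_smul_right, smul_eq_mul,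
        w1, w2, P.pair₁.2.2, hef, polar_singular_self P.pair₁.1, polar_singular_self P.pair₁.2.1]
      ring
    · intro x
      apply Subtype.ext
      have h := x.2.2
      rw [polar_add_right, polar_smul_right, smul_eq_mul, add_eq_zero_iff_eq_neg] at h
      show x.1 + _ + _ + _ + _ = x.1
      rw [h]
      module
    · intro y
      obtain ⟨w1, w2⟩ := (hWmem _).1 y.1.2
      have he : polar Q (y.1.1 + (-(a * y.2.1)) • P.e₁ + y.2.1 • P.f₁) P.e₁ = y.2.1 := by
        simp [w1, hef, polar_singular_self P.pair₁.1]
      have hf : polar Q (y.1.1 + (-(a * y.2.1)) • P.e₁ + y.2.1 • P.f₁) P.f₁ = -(a * y.2.1) := by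
        simp [w2, P.pair₁.2.2, polar_singular_self P.pair₁.2.1]
      refine Sigma.subtype_ext (Subtype.ext ?_) he
      show y.1.1 + _ + _ + _ + _ = y.1.1
      rw [he, hf]
      module
  have hsum : Nat.card {x : V // Q x = c ∧ polar Q x (P.f₁ + (1 : F) • P.e₁) = 0}
      + Nat.card {x : V // Q x = c ∧ polar Q x (P.f₁ + α • P.e₁) = 0} = 2 * Nat.card W := by
    rw [count, count, ← Finset.sum_add_distrib, Finset.sum_congr rfl fun w _ => card_sqrt_sum h2 hα _,
      Finset.sum_const, Finset.card_univ, ← Nat.card_eq_fintype_card, smul_eq_mul, mul_comm]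
  have hodd : Odd (Nat.card W) := by
    rw [Module.natCard_eq_pow_finrank (K := F), Nat.card_eq_fintype_card]
    refine Odd.pow ?_
    rw [Nat.odd_iff]
    exact FiniteField.odd_card_of_char_ne_two h2
  have hneg : ∀ x : V, Q x = c → -x ≠ x := by
    intro x hx h
    have h3 : (2 : F) • x = 0 := by
      linear_combination (norm := module) -h
    rcases smul_eq_zero.1 h3 with h3 | h3
    · exact two_ne_zero_of_ringChar h2 h3
    · exact hc (by rw [← hx, h3, QuadraticMap.map_zero])
  have evL : Even (Nat.card (Level Q c)) := even_natCard_of_involution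
    (fun x => ⟨-x.1, by rw [QuadraticMap.map_neg, x.2]⟩) (fun x => by simp)
    (fun x h => hneg _ x.2 (congrArg Subtype.val h))
  have evF : ∀ v, Even (Nat.card {x : V // Q x = c ∧ polar Q x v = 0}) := fun v =>
    even_natCard_of_involution (fun x => ⟨-x.1, by rw [QuadraticMap.map_neg, x.2.1],
      by rw [polar_neg_left, x.2.2, neg_zero]⟩) (fun x => by simp)
      (fun x h => hneg _ x.2.1 (congrArg Subtype.val h))
  have hle : ∀ v, Nat.card {x : V // Q x = c ∧ polar Q x v = 0} ≤ Nat.card (Level Q c) := fun v =>
    Nat.card_le_card_of_injective (fun x => ⟨x.1, x.2.1⟩)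
      fun x y h => Subtype.ext (congrArg (fun z : Level Q c => z.1) h)
  rw [levelSign_refl c (by rw [Q_f₁_add]; exact one_ne_zero),
    levelSign_refl c (by rw [Q_f₁_add]; exact fun h => hα (h ▸ IsSquare.zero)), ← pow_add]
  refine Odd.neg_one_pow ?_
  have h1 := hle (P.f₁ + (1 : F) • P.e₁)
  have h3 := hle (P.f₁ + α • P.e₁)
  have e1 := evF (P.f₁ + (1 : F) • P.e₁)
  have e3 := evF (P.f₁ + α • P.e₁)
  rw [Nat.even_iff] at evL e1 e3
  rw [Nat.odd_iff] at hodd ⊢
  omega

include hnd in
omit [Finite V] in
/-- The four classes modulo the Siegel group. -/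
theorem exists_class_odd (h2 : ringChar F ≠ 2) {α : F} (hα : ¬ IsSquare α)
    (x : Orth Q ⧸ siegelGroup Q) :
    x = 1 ∨ x = reflClass P 1 ∨ x = reflClass P α ∨ x = reflClass P 1 * reflClass P α := by
  classical
  have hα0 : α ≠ 0 := fun h => hα (h ▸ IsSquare.zero)
  have hcl : ∀ a : F, reflClass P a = 1 ∨ reflClass P a = reflClass P 1 ∨
      reflClass P a = reflClass P α := by
    intro a
    by_cases ha : a = 0
    · left
      have h := reflClass_eq hnd P (0 : V)
      rw [QuadraticMap.map_zero] at h
      rw [ha, ← h, show refl Q (0 : V) = 1 from orth_ext fun x => by simp [refl_apply], map_one]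
    by_cases hs : IsSquare a
    · obtain ⟨s, rfl⟩ := hs
      right; left
      rw [← reflClass_sq hnd P (left_ne_zero_of_mul ha) (1 : F), mul_one]
    · have h3 : IsSquare (a * α⁻¹) := by
        rw [← quadraticChar_one_iff_isSquare (mul_ne_zero ha (inv_ne_zero hα0)), map_mul,
          quadraticChar_neg_one_iff_not_isSquare.2 hs,
          quadraticChar_neg_one_iff_not_isSquare.2 (fun h => hα (by simpa using h.inv))]
        norm_num
      obtain ⟨s, hs'⟩ := h3
      have hs0 : s ≠ 0 := fun h => by simp [h, ha, hα0] at hs'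
      right; right
      rw [← reflClass_sq hnd P hs0 α, ← hs', mul_assoc, inv_mul_cancel₀ hα0, mul_one]
  have hx : x ∈ Subgroup.closure (Set.range (reflClass P)) := by
    rw [closure_reflClass hnd P]; trivial
  have s1 : reflClass P 1 * reflClass P (1 : F) = 1 := reflClass_mul_self P 1
  have sα : reflClass P α * reflClass P α = 1 := reflClass_mul_self P α
  have hcm : reflClass P α * reflClass P 1 = reflClass P 1 * reflClass P α := reflClass_comm hnd P α 1
  have l1 : ∀ z, reflClass P 1 * (reflClass P 1 * z) = z := fun z => by rw [← mul_assoc, s1, one_mul]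
  have lα : ∀ z, reflClass P α * (reflClass P α * z) = z := fun z => by rw [← mul_assoc, sα, one_mul]
  have lc : ∀ z, reflClass P α * (reflClass P 1 * z) = reflClass P 1 * (reflClass P α * z) :=
    fun z => by rw [← mul_assoc, hcm, mul_assoc]
  induction hx using Subgroup.closure_induction with
  | mem y hy =>
    obtain ⟨a, rfl⟩ := hy
    rcases hcl a with h | h | h <;> simp [h]
  | one => simp
  | mul y z _ _ hy hz =>
    rcases hy with rfl | rfl | rfl | rfl <;> rcases hz with rfl | rfl | rfl | rfl <;>
      simp [s1, sα, hcm, l1, lα, lc, mul_assoc]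
  | inv y _ hy =>
    have i1 : (reflClass P (1 : F))⁻¹ = reflClass P 1 := inv_eq_of_mul_eq_one_left s1
    have iα : (reflClass P α)⁻¹ = reflClass P α := inv_eq_of_mul_eq_one_left sα
    rcases hy with rfl | rfl | rfl | rfl <;> simp [i1, iα, hcm]

include hnd P in
/-- The Siegel group is the common kernel of the two characters, and has index 4. -/
theorem siegel_index_odd (h2 : ringChar F ≠ 2) {c : F} (hc : c ≠ 0) :
    (siegelGroup Q).index = 4 ∧
      ∀ g : Orth Q, g ∈ siegelGroup Q ↔ detHom Q g = 1 ∧ levelSign Q c g = 1 := by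
  classical
  have h21 : (-1 : Fˣ) ≠ 1 := by
    intro h
    have h' := congrArg Units.val h
    push_cast at h'
    exact two_ne_zero_of_ringChar h2 (by linear_combination -h')
  obtain ⟨α, hα⟩ := FiniteField.exists_nonsquare h2
  have hα0 : α ≠ 0 := fun h => hα (h ▸ IsSquare.zero)
  set Φ : Orth Q →* Fˣ × ℤˣ := (detHom Q).prod (levelSign Q c) with hΦ
  have hE : siegelGroup Q ≤ Φ.ker := fun g hg => map_eq_one_of_mem hnd P Φ hg
  set Φb : (Orth Q ⧸ siegelGroup Q) →* Fˣ × ℤˣ := QuotientGroup.lift (siegelGroup Q) Φ hE with hΦb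
  have hd : ∀ a : F, a ≠ 0 → (Φb (reflClass P a)).1 = -1 := by
    intro a ha
    show detHom Q _ = -1
    exact detHom_refl (by rw [Q_f₁_add]; exact ha)
  have hp : (Φb (reflClass P 1 * reflClass P α)).2 = -1 := by
    rw [map_mul, Prod.snd_mul]
    exact levelSign_frame_mul P h2 hc hα
  have n1 : reflClass P (1 : F) ≠ 1 := fun h => h21 (by
    rw [← hd 1 one_ne_zero, h, map_one]; rfl)
  have n2 : reflClass P α ≠ 1 := fun h => h21 (by rw [← hd α hα0, h, map_one]; rfl)
  have n3 : reflClass P 1 * reflClass P α ≠ 1 := fun h => by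
    rw [h, map_one] at hp
    exact absurd (show (1 : ℤˣ) = -1 from hp) (by decide)
  have hker : ∀ x, Φb x = 1 → x = 1 := by
    intro x hx
    rcases exists_class_odd hnd P h2 hα x with rfl | rfl | rfl | rfl
    · rfl
    · exact absurd (by rw [← hd 1 one_ne_zero, hx]; rfl) h21
    · exact absurd (by rw [← hd α hα0, hx]; rfl) h21
    · rw [hx] at hp
      exact absurd (show (1 : ℤˣ) = -1 from hp) (by decide)
  constructor
  · rw [Subgroup.index]
    have hb : Function.Bijective ![(1 : Orth Q ⧸ siegelGroup Q), reflClass P 1, reflClass P α,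
        reflClass P 1 * reflClass P α] := by
      have n4 : reflClass P 1 ≠ reflClass P α := fun h => n3 (by rw [h, reflClass_mul_self])
      have hinj : Function.Injective ![(1 : Orth Q ⧸ siegelGroup Q), reflClass P 1, reflClass P α,
          reflClass P 1 * reflClass P α] := by
        intro i j hij
        fin_cases i <;> fin_cases j <;> first
          | rfl
          | (exfalso; simp at hij
             first
              | exact n1 hij | exact n1 hij.symm | exact n2 hij | exact n2 hij.symm
              | exact n3 hij | exact n3 hij.symm | exact n4 hij | exact n4 hij.symm)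
      refine ⟨hinj, fun x => ?_⟩
      rcases exists_class_odd hnd P h2 hα x with rfl | rfl | rfl | rfl
      · exact ⟨0, rfl⟩
      · exact ⟨1, rfl⟩
      · exact ⟨2, rfl⟩
      · exact ⟨3, rfl⟩
    rw [← Nat.card_eq_of_bijective _ hb]
    simp
  · intro g
    constructor
    · intro hg
      exact Prod.ext_iff.1 (MonoidHom.mem_ker.1 (hE hg))
    · intro hg
      rw [← QuotientGroup.eq_one_iff (N := siegelGroup Q)]
      exact hker _ (Prod.ext hg.1 hg.2)

include hnd P in
theorem negOne_mem_siegel_iff (h2 : ringChar F ≠ 2) (hn : Even (finrank F V)) {c : F} (hc : c ≠ 0) :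
    negOne Q ∈ siegelGroup Q ↔ 4 ∣ Nat.card (Level Q c) := by
  have hsq : negOne Q * negOne Q = 1 := orth_ext fun x => by simp [negOne_apply]
  have hdet : detHom Q (negOne Q) = 1 := Units.ext (by rw [detHom_negOne, hn.neg_one_pow]; rfl)
  have hfix : IsEmpty {x : V // Q x = c ∧ (negOne Q).1 x = x} := ⟨fun x => by
    have h3 : (2 : F) • x.1 = 0 := by
      have h := x.2.2
      rw [negOne_apply] at h
      linear_combination (norm := module) -h
    rcases smul_eq_zero.1 h3 with h3 | h3
    · exact two_ne_zero_of_ringChar h2 h3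
    · exact hc (by rw [← x.2.1, h3, QuadraticMap.map_zero])⟩
  have hev : Even (Nat.card (Level Q c)) := even_natCard_of_involution
    (fun x => ⟨-x.1, by rw [QuadraticMap.map_neg, x.2]⟩) (fun x => by simp)
    (fun x h => by
      exact hfix.false ⟨x.1, x.2, congrArg Subtype.val h⟩)
  rw [(siegel_index_odd hnd P h2 hc).2, levelSign_of_involution c _ hsq,
    @Nat.card_of_isEmpty {x : V // Q x = c ∧ (negOne Q).1 x = x} hfix,
    Nat.sub_zero]
  simp only [hdet, true_and, neg_one_pow_eq_one_iff_even (show (-1 : ℤˣ) ≠ 1 by decide)]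
  rw [Nat.even_iff] at hev ⊢
  omega

end Odd

section Parity

variable [FiniteDimensional F V] (hnd : NDPolar Q)

/-- The fixed space. -/
abbrev fixSpace (g : Orth Q) : Submodule F V := LinearMap.eqLocus (g.1 : V →ₗ[F] V) LinearMap.id

include hnd

theorem fixSpace_refl_mul {v : V} (hv : Q v ≠ 0) (g : Orth Q) :
    finrank F (fixSpace (refl Q v * g)) = finrank F (fixSpace g) + 1 ∨
      finrank F (fixSpace g) = finrank F (fixSpace (refl Q v * g)) + 1 := by
  have hmem : ∀ (h : Orth Q) x, x ∈ fixSpace h ↔ h.1 x = x := fun _ _ => Iff.rfl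
  have hinv : ∀ x, (refl Q v).1 ((refl Q v).1 x) = x := reflFun_reflFun v
  -- a vector fixed by `r g` is moved by `g` along `v`
  have hline : ∀ x, (refl Q v).1 (g.1 x) = x → g.1 x = x + (-(polar Q x v / Q v)) • v := by
    intro x hx
    have h := congrArg (refl Q v).1 hx
    rwa [hinv, refl_apply] at h
  by_cases hr : ∃ w, g.1 w - w = v
  · left
    obtain ⟨w, hw⟩ := hr
    have hgw : g.1 w = w + v := by rw [← hw]; abel
    have hgwf : (refl Q v).1 (g.1 w) = w := by
      have h1 : (refl Q v).1 w = g.1 w := by
        rw [← hw]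
        exact refl_sub (orth_Q g w).symm (by rw [hw]; exact hv)
      rw [← h1, hinv]
    have hwK : w ∉ fixSpace g := by
      rw [hmem, hgw, add_eq_left]
      exact fun h => hv (by rw [h]; simp)
    have hKv : ∀ x, g.1 x = x → polar Q x v = 0 := by
      intro x hx
      rw [← hw, polar_sub_right]
      nth_rewrite 1 [← hx]
      rw [orth_polar, sub_self]
    have heq : fixSpace (refl Q v * g) = fixSpace g ⊔ Submodule.span F {w} := by
      refine le_antisymm (fun x hx => ?_) (sup_le (fun x hx => ?_) ?_)
      · rw [hmem, mul_apply] at hx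
        have h := hline x hx
        set l := -(polar Q x v / Q v)
        rw [Submodule.mem_sup]
        refine ⟨x + (-l) • w, ?_, l • w, Submodule.smul_mem _ _ (Submodule.mem_span_singleton_self w),
          by module⟩
        rw [hmem, map_add, map_smul, h, hgw]
        module
      · rw [hmem] at hx ⊢
        rw [mul_apply, hx, refl_fix (hKv x hx)]
      · rw [Submodule.span_singleton_le_iff_mem, hmem, mul_apply, hgwf]
    rw [heq]
    have hdisj : fixSpace g ⊓ Submodule.span F {w} = ⊥ :=
      disjoint_iff.1 ((Submodule.disjoint_span_singleton' (fun h => hwK (by rw [h]; exact Submodule.zero_mem _))).2 hwK)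
    have h := Submodule.finrank_sup_add_finrank_inf_eq (fixSpace g) (Submodule.span F {w})
    rw [hdisj, finrank_bot, add_zero,
      finrank_span_singleton (fun h => hwK (by rw [h]; exact Submodule.zero_mem _))] at h
    exact h
  · right
    push Not at hr
    have heq : fixSpace (refl Q v * g) = fixSpace g ⊓ LinearMap.ker ((polarBilin Q).flip v) := by
      ext x
      rw [Submodule.mem_inf, hmem, hmem, mul_apply]
      constructor
      · intro hx
        have h := hline x hx
        by_cases hl : polar Q x v = 0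
        · exact ⟨by rw [h, hl]; simp, by simpa using hl⟩
        · exfalso
          refine hr ((-(polar Q x v / Q v))⁻¹ • x) ?_
          rw [map_smul, ← smul_sub, h, add_sub_cancel_left, smul_smul, inv_mul_cancel₀, one_smul]
          simp [hl, hv]
      · intro hx
        rw [hx.1, refl_fix (by simpa using hx.2)]
    -- `v⊥` does not contain the fixed space
    obtain ⟨k, hk, hkv⟩ : ∃ k, g.1 k = k ∧ polar Q k v ≠ 0 := by
      by_contra hcon
      push Not at hcon
      set D : V →ₗ[F] V := (g.1 : V →ₗ[F] V) - LinearMap.id with hD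
      have hker : LinearMap.ker D ≤ LinearMap.ker ((polarBilin Q).flip v) := by
        intro x hx
        have : g.1 x = x := sub_eq_zero.1 (by simpa [hD] using hx)
        simpa using hcon x this
      obtain ⟨ψ, hψ⟩ : ∃ ψ : V →ₗ[F] F, ψ ∘ₗ D = (polarBilin Q).flip v := by
        obtain ⟨ψ, hψ⟩ := LinearMap.exists_extend
          ((LinearMap.ker D).liftQ ((polarBilin Q).flip v) hker ∘ₗ
            (D.quotKerEquivRange.symm : LinearMap.range D →ₗ[F] V ⧸ LinearMap.ker D))
        refine ⟨ψ, LinearMap.ext fun x => ?_⟩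
        have h := LinearMap.congr_fun hψ ⟨D x, LinearMap.mem_range_self D x⟩
        simpa [LinearMap.quotKerEquivRange_symm_apply_image] using h
      obtain ⟨z, hz⟩ := exists_polar hnd ψ
      refine hr (-((g⁻¹).1 z)) ?_
      rw [← sub_eq_zero]
      refine hnd _ fun x => ?_
      have h := LinearMap.congr_fun hψ x
      simp only [hD, LinearMap.coe_comp, Function.comp_apply, LinearMap.sub_apply,
        LinearMap.id_coe, id_eq, LinearEquiv.coe_coe, LinearMap.flip_apply, polarBilin_apply_apply] at h
      rw [← hz, polar_sub_right] at h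
      have h' : polar Q z (g.1 x) = polar Q ((g⁻¹).1 z) x := by
        conv_lhs => rw [← self_apply_inv g z]
        rw [orth_polar]
      rw [h', polar_comm Q x v] at h
      simp only [map_neg, self_apply_inv, polar_sub_left, polar_neg_left, sub_neg_eq_add,
        polar_add_left]
      linear_combination h
    rw [heq]
    have hlt : fixSpace g ⊓ LinearMap.ker ((polarBilin Q).flip v) < fixSpace g :=
      lt_of_le_of_ne inf_le_left fun h => hkv (by
        have : k ∈ LinearMap.ker ((polarBilin Q).flip v) := (inf_eq_left.1 h) hk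
        simpa using this)
    have h1 := Submodule.finrank_lt_finrank_of_lt hlt
    have h2 := Submodule.finrank_sup_add_finrank_inf_eq (fixSpace g)
      (LinearMap.ker ((polarBilin Q).flip v))
    have h3 := Submodule.finrank_le (fixSpace g ⊔ LinearMap.ker ((polarBilin Q).flip v))
    have h4 := LinearMap.finrank_range_add_finrank_ker ((polarBilin Q).flip v)
    have h5 := Submodule.finrank_le (LinearMap.range ((polarBilin Q).flip v))
    rw [finrank_self] at h5
    omega

theorem parity_prod (l : List V) (hl : ∀ v ∈ l, Q v ≠ 0) :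
    (finrank F (fixSpace (l.map (refl Q)).prod) + l.length) % 2 = finrank F V % 2 := by
  induction l with
  | nil =>
    have h : fixSpace (1 : Orth Q) = ⊤ := by
      ext x
      simp [fixSpace]
    rw [List.map_nil, List.prod_nil, h, finrank_top]
    simp
  | cons v l ih =>
    rw [List.map_cons, List.prod_cons, List.length_cons]
    have h := ih fun w hw => hl w (List.mem_cons_of_mem _ hw)
    rcases fixSpace_refl_mul hnd (hl v List.mem_cons_self) (l.map (refl Q)).prod with h1 | h1 <;>
      omega

variable (P : Frame Q)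

omit hnd [FiniteDimensional F V] in
/-- Products of an even number of reflections. -/
def evenRefl (Q : QuadraticForm F V) : Subgroup (Orth Q) where
  carrier := {g | ∃ l : List V, (∀ v ∈ l, Q v ≠ 0) ∧ Even l.length ∧ g = (l.map (refl Q)).prod}
  mul_mem' := by
    rintro a b ⟨l, hl, he, rfl⟩ ⟨l', hl', he', rfl⟩
    exact ⟨l ++ l', fun v hv => (List.mem_append.1 hv).elim (hl v) (hl' v),
      by rw [List.length_append]; exact he.add he', by rw [List.map_append, List.prod_append]⟩
  one_mem' := ⟨[], by simp, by simp, rfl⟩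
  inv_mem' := by
    rintro a ⟨l, hl, he, rfl⟩
    refine ⟨l.reverse, fun v hv => hl v (List.mem_reverse.1 hv), by rwa [List.length_reverse], ?_⟩
    rw [List.prod_inv_reverse, List.map_map, List.map_reverse]
    simp [Function.comp_def, refl_inv]

include P in
theorem siegelGroup_le_evenRefl : siegelGroup Q ≤ evenRefl Q := by
  rw [siegelGroup, Subgroup.closure_le]
  rintro _ ⟨u, w, hu, hw, rfl⟩
  have key : ∀ y (hy : polar Q u y = 0), Q y ≠ 0 → siegel Q u y hu hy ∈ evenRefl Q := by
    intro y hy hy0
    refine ⟨[y + (-(Q y)) • u, y], ?_, ⟨1, rfl⟩, ?_⟩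
    · intro v hv
      rcases List.mem_cons.1 hv with rfl | hv
      · rw [Q_comb1, hu, polar_comm Q y u, hy]
        simpa using hy0
      · rw [List.mem_singleton.1 hv]
        exact hy0
    · simp [siegel_eq_refl_mul hu hy hy0]
  by_cases hw0 : Q w = 0
  · obtain ⟨y, hyu, hyw, hy0⟩ := exists_nonsingular_orth hnd P u w
    have hy : polar Q u y = 0 := by rw [polar_comm]; exact hyu
    have hwy : polar Q u (w + -y) = 0 := by simp [hw, hy]
    have h1 : Q (w + -y) ≠ 0 := by
      rw [QuadraticMap.map_add Q, QuadraticMap.map_neg, hw0, polar_neg_right, polar_comm Q w y, hyw]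
      simpa using hy0
    have h := mul_mem (key _ hwy h1) (key y hy hy0)
    rw [siegel_mul] at h
    rwa [siegel_congr hu _ hu hw rfl (by abel)] at h
  · exact key w hw hw0

include P in
/-- In characteristic 2 the Siegel group has index 2. -/
theorem siegel_index_even [Fintype F] (h2 : ringChar F = 2) :
    (siegelGroup Q).index = 2 ∧
      ∀ g : Orth Q, g ∈ siegelGroup Q ↔ finrank F (fixSpace g) % 2 = finrank F V % 2 := by
  have hv : Q (P.f₁ + (1 : F) • P.e₁) ≠ 0 := by rw [Q_f₁_add]; exact one_ne_zero
  have hcl : ∀ x : Orth Q ⧸ siegelGroup Q, x = 1 ∨ x = reflClass P 1 := by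
    intro x
    have hx : x ∈ Subgroup.closure (Set.range (reflClass P)) := by
      rw [closure_reflClass hnd P]; trivial
    induction hx using Subgroup.closure_induction with
    | mem y hy =>
      obtain ⟨a, rfl⟩ := hy
      by_cases ha : a = 0
      · left
        have h := reflClass_eq hnd P (0 : V)
        rw [QuadraticMap.map_zero] at h
        rw [ha, ← h, show refl Q (0 : V) = 1 from orth_ext fun x => by simp [refl_apply], map_one]
      · right
        obtain ⟨s, rfl⟩ := FiniteField.isSquare_of_char_two h2 a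
        rw [← reflClass_sq hnd P (left_ne_zero_of_mul ha) (1 : F), mul_one]
    | one => simp
    | mul y z _ _ hy hz =>
      rcases hy with rfl | rfl <;> rcases hz with rfl | rfl <;> simp [reflClass_mul_self P]
    | inv y _ hy =>
      rcases hy with rfl | rfl
      · simp
      · exact Or.inr (inv_eq_of_mul_eq_one_left (reflClass_mul_self P 1))
  have heven : ∀ g ∈ siegelGroup Q, finrank F (fixSpace g) % 2 = finrank F V % 2 := by
    intro g hg
    obtain ⟨l, hl, he, rfl⟩ := siegelGroup_le_evenRefl hnd P hg
    have := parity_prod hnd l hl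
    rw [Nat.even_iff] at he
    omega
  have hone : ∀ g ∈ siegelGroup Q,
      finrank F (fixSpace (refl Q (P.f₁ + (1 : F) • P.e₁) * g)) % 2 ≠ finrank F V % 2 := by
    intro g hg
    have h1 := heven g hg
    rcases fixSpace_refl_mul hnd hv g with h | h <;> omega
  have hne : reflClass P (1 : F) ≠ 1 := by
    intro h
    have h' := inv_mem ((QuotientGroup.eq_one_iff _).1 h)
    exact hone _ h' (by rw [mul_inv_cancel]; exact heven 1 (one_mem _))
  refine ⟨?_, fun g => ⟨heven g, fun hg => ?_⟩⟩
  · rw [Subgroup.index]
    have hb : Function.Bijective ![(1 : Orth Q ⧸ siegelGroup Q), reflClass P 1] := by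
      refine ⟨?_, fun x => ?_⟩
      · intro i j hij
        fin_cases i <;> fin_cases j <;> simp at hij ⊢
        · exact hne hij.symm
        · exact hne hij
      · rcases hcl x with rfl | rfl
        · exact ⟨0, rfl⟩
        · exact ⟨1, rfl⟩
    rw [← Nat.card_eq_of_bijective _ hb]
    simp
  · rcases hcl (QuotientGroup.mk' (siegelGroup Q) g) with h | h
    · exact (QuotientGroup.eq_one_iff g).1 h
    · exfalso
      have h' : (refl Q (P.f₁ + (1 : F) • P.e₁))⁻¹ * g ∈ siegelGroup Q :=
        QuotientGroup.eq.1 h.symm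
      have := hone _ h'
      rw [mul_inv_cancel_left] at this
      exact this hg

end Parity

end CfsgLib.Classical.Quad
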